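import Cfsg.Agent.H807.Fx.FieldGL

/-!
# `No34 (PSL_n(q))`, `n ≥ 5`
-/

set_option autoImplicit false
set_option linter.style.haveILetI false

namespace Cfsg.Agent.H807.Fx

open Matrix Subgroup
open Cfsg.Agent.H254.Fx
open Cfsg.Agent.H104.GoodFam Cfsg.Agent.H104.RowPSL Cfsg.Agent.H104.FieldModel
open Cfsg.Agent.H104.RankBound (qU qU_coe)

variable {F : Type} [Field F]

theorem out_of_conj {G : Type*} [Group G] {r : ℕ} {x u : G} (hx : orderOf x = r) {j n : ℕ}
    (hu : u * x * u⁻¹ = x ^ j) (h : ¬ j ^ n ≡ 1 [MOD r]) : Out x (u ^ n) := by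
  right; right
  intro hc
  apply h
  have h1 := pow_conj_iter hu n
  rw [hc] at h1
  have h2 : x ^ 1 = x ^ j ^ n := by rw [← h1, pow_one]; group
  rw [pow_eq_pow_iff_modEq, hx] at h2
  exact h2.symm

theorem orderOf_cast [Fintype F] {r : ℕ} [hr : Fact r.Prime] (hrF : (r : F) ≠ 0) :
    orderOf ((Fintype.card F : ℕ) : ZMod r) = orderOf (qU F r hrF) := by
  rw [← qU_coe (F := F) hrF, orderOf_units]

section ext

variable [Fintype F] {K : Type} [Field K] [Finite K] [Algebra F K] {e : ℕ} (b : Module.Basis (Fin e) F K)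

theorem orderOf_gl {r : ℕ} [hr : Fact r.Prime] (h1 : ¬ r ∣ Fintype.card F - 1) {a : Kˣ} (ha : orderOf a = r) :
    orderOf (gl F e (TT b a)) = r := by
  have har : a ^ r = 1 := by rw [← ha, pow_orderOf_eq_one]
  refine orderOf_eq_prime ?_ ?_
  · rw [← map_pow, ← map_pow, har, map_one, map_one]
  · intro h
    obtain ⟨c, -, hc⟩ := gl_eq_one h
    have h2 := TT_eq_scalar b hc
    have h3 : c ^ r = 1 := by
      apply (algebraMap F K).injective
      rw [map_pow, ← h2, map_one, ← Units.val_pow_eq_pow_val, har, Units.val_one]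
    rw [not_dvd_sub_one_of h1 h3, map_one] at h2
    have h4 : a = 1 := Units.ext h2
    rw [h4, orderOf_one] at ha
    exact hr.out.one_lt.ne ha

theorem gl_comm (a a' : Kˣ) : gl F e (TT b a) * gl F e (TT b a') = gl F e (TT b a') * gl F e (TT b a) := by
  rw [← map_mul, ← map_mul, ← map_mul, ← map_mul, mul_comm]

theorem gl_fr (a : Kˣ) : gl F e (PH b (fr F K)) * gl F e (TT b a) * (gl F e (PH b (fr F K)))⁻¹ =
    gl F e (TT b a) ^ Fintype.card F := by
  rw [← map_inv, ← map_mul, ← map_mul, fr_conj, map_pow]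

end ext

theorem three_dvd_of_even [Fintype F] (he : Even (Fintype.card F)) : 3 ∣ Fintype.card F ^ 2 - 1 := by
  obtain ⟨p, hp⟩ := CharP.exists F
  obtain ⟨n, hpr, hn⟩ := FiniteField.card F p
  have h2 : p = 2 := by
    rw [hn] at he
    have h4 := (Nat.even_pow.1 he).1
    exact (hpr.even_iff).1 h4
  subst h2
  rw [hn, ← pow_mul, mul_comm, pow_mul]
  have h3 := Nat.sub_dvd_pow_sub_pow (2 ^ 2) 1 (n : ℕ)
  rwa [one_pow] at h3

/-- `n = 5`, `ord_r(q) = 4` -/
theorem kill_five_four [Fintype F] {r : ℕ} [hr : Fact r.Prime] (hrF : (r : F) ≠ 0) (h4 : orderOf (qU F r hrF) = 4) :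
    KillAll r (ProjectiveSpecialLinearGroup (Fin 5) F) := by
  have hmod : ∀ n : ℕ, 0 < n → n < 4 → ¬ Fintype.card F ^ n ≡ 1 [MOD r] := by
    intro n hn hn4 h
    rw [modEq_iff hrF, h4] at h
    have := Nat.le_of_dvd hn h
    omega
  have hd : r ∣ Fintype.card F ^ 4 - 1 := by
    have := dvd_pow_orderOf (F := F) (p := r) hrF
    rwa [h4] at this
  have h1 : ¬ r ∣ Fintype.card F - 1 := by
    intro h
    apply hmod 1 (by norm_num) (by norm_num)
    rw [pow_one, Nat.ModEq.comm, Nat.modEq_iff_dvd' Fintype.card_pos]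
    exact h
  obtain ⟨K, _, _, _, hcard, hfin, ⟨b⟩⟩ := exists_ext F (e := 4) (by norm_num)
  have hcardu : Nat.card Kˣ = Fintype.card F ^ 4 - 1 := by rw [Nat.card_units, hcard]
  obtain ⟨a, ha⟩ := exists_prime_orderOf_dvd_card' (G := Kˣ) r (by rw [hcardu]; exact hd)
  have hx := orderOf_gl b h1 ha
  have hu := gl_fr b a
  have huN := mem_normalizer_of_conj (G := ProjectiveSpecialLinearGroup (Fin 5) F) hu
  refine ⟨_, hx, ?_⟩
  rcases Nat.even_or_odd (Fintype.card F) with he | ho
  · right; right; left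
    have : Fact (Nat.Prime 3) := ⟨Nat.prime_three⟩
    obtain ⟨ζ, hζ⟩ := exists_prime_orderOf_dvd_card' (G := Kˣ) 3 (by
      rw [hcardu]
      refine (three_dvd_of_even he).trans ?_
      have h3 := Nat.sub_dvd_pow_sub_pow (Fintype.card F ^ 2) 1 2
      rwa [one_pow, ← pow_mul] at h3)
    have hζ3 : ζ ^ 3 = 1 := by rw [← hζ, pow_orderOf_eq_one]
    refine ⟨_, huN, gl F 4 (TT b ζ), mem_normalizer_of_comm (G := ProjectiveSpecialLinearGroup (Fin 5) F) (gl_comm b _ _),
      out_of_conj hx hu (hmod 2 (by norm_num) (by norm_num)), out_of_conj hx hu (hmod 3 (by norm_num) (by norm_num)), ?_⟩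
    refine orderOf_eq_prime ?_ ?_
    · rw [← map_pow, ← map_pow, hζ3, map_one, map_one]
    · intro h
      obtain ⟨c, hc5, hc⟩ := gl_eq_one h
      have h2 := TT_eq_scalar b hc
      have h3 : c ^ 3 = 1 := by
        apply (algebraMap F K).injective
        rw [map_pow, ← h2, map_one, ← Units.val_pow_eq_pow_val, hζ3, Units.val_one]
      have h4 : c = 1 := by
        have h5 : c ^ (4 + 1) * c = c ^ 3 * c ^ 3 := by ring
        rw [hc5, h3] at h5
        simpa using h5
      rw [h4, map_one] at h2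
      have h6 : ζ = 1 := Units.ext h2
      rw [h6, orderOf_one] at hζ
      norm_num at hζ
  · left
    have h20 : (2 : F) ≠ 0 := by
      intro h
      have h2 : ringChar F ∣ 2 := ringChar.dvd (by exact_mod_cast h)
      have h3 : ringChar F = 2 := by
        rcases (Nat.dvd_prime Nat.prime_two).1 h2 with h4 | h4
        · exact absurd h4 (CharP.ringChar_ne_one)
        · exact h4
      rw [FiniteField.even_card_iff_char_two, ← Nat.even_iff, ← Nat.not_odd_iff_even] at h3
      exact h3 ho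
    refine bad_of_four (t := gl F 4 (TT b (-1))) hr.out hx hu ?_ ?_ (gl_comm b _ _)
    · rw [orderOf_cast hrF, h4]
    · refine orderOf_eq_prime ?_ ?_
      · rw [← map_pow, ← map_pow]
        norm_num
      · intro h
        obtain ⟨c, hc5, hc⟩ := gl_eq_one h
        have h2 := TT_eq_scalar b hc
        have h3 : c = -1 := by
          apply (algebraMap F K).injective
          rw [← h2, map_neg, map_one]
          simp
        rw [h3] at hc5
        apply h20
        norm_num at hc5
        linear_combination (-1 : F) * hc5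

/-- **`PSL_n(q)`, `n ≥ 5`** -/
theorem no34_psl {n : ℕ} (hn : 5 ≤ n) (F : Type) [Field F] [Fintype F] :
    No34 (Matrix.ProjectiveSpecialLinearGroup (Fin n) F) := by
  refine no34_of ?_ ?_
  · intro _
    obtain ⟨k, rfl⟩ : ∃ k, n = k + 5 := ⟨n - 5, by omega⟩
    have ε : Fin 2 ⊕ (Fin 2 ⊕ Fin (k + 1)) ≃ Fin (k + 5) := Fintype.equivOfCardEq (by
      simp only [Fintype.card_sum, Fintype.card_fin]; omega)
    exact bad3_psl ε (Or.inl (by omega))
  · intro r hr h5 hd
    left
    have : Fact r.Prime := ⟨hr⟩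
    by_cases hle : ∀ hrF : (r : F) ≠ 0, orderOf (qU F r hrF) ≤ n - 2
    · obtain ⟨y, hy⟩ := exists_of_order_le (F := F) (k := n - 2) (by omega) hle
      obtain ⟨k, rfl⟩ : ∃ k, n = k + 2 := ⟨n - 2, by omega⟩
      exact killAll_sub (F := F) (by omega) hy
    · push Not at hle
      obtain ⟨hrF, hlt⟩ := hle
      have hlen := orderOf_le_of_dvd (by omega) hrF hd
      by_cases h4 : orderOf (qU F r hrF) = 4
      · have h5 : n = 5 := by omega
        subst h5
        exact kill_five_four hrF h4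
      · obtain ⟨m, hm⟩ : ∃ m, m = orderOf (qU F r hrF) := ⟨_, rfl⟩
        have hd' := dvd_pow_orderOf (F := F) (p := r) hrF
        rw [← hm] at hlt hlen h4 hd'
        obtain ⟨e', rfl⟩ : ∃ e', n = m + e' := ⟨n - m, by omega⟩
        have hmod : ∀ i : ℕ, 0 < i → i < 5 → ¬ Fintype.card F ^ i ≡ 1 [MOD r] := by
          intro i hi hi5 h
          rw [modEq_iff hrF, ← hm] at h
          have := Nat.le_of_dvd hi h
          omega
        refine killAll_conj (by omega) hd' ?_ (hmod 3 (by norm_num) (by norm_num)) (hmod 4 (by norm_num) (by norm_num))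
        intro h
        apply hmod 1 (by norm_num) (by norm_num)
        rw [pow_one, Nat.ModEq.comm, Nat.modEq_iff_dvd' Fintype.card_pos]
        exact h

end Cfsg.Agent.H807.Fx
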