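import Cfsg.Agent.H807.Fx.FourSpec

/-!
# `PSL_4(q)`
-/

set_option autoImplicit false
set_option linter.style.haveILetI false

namespace Cfsg.Agent.H807.Fx

open Matrix Subgroup
open Cfsg.Agent.H254.Fx
open Cfsg.Agent.H104.GoodFam Cfsg.Agent.H104.RowPSL Cfsg.Agent.H104.FieldModel
open Cfsg.Agent.H104.RankBound (qU qU_coe)

variable {F : Type} [Field F] [Fintype F] {r : ℕ} [hr : Fact r.Prime]

/-- a Sylow subgroup of prime order whose normalizer has no involution -/
theorem kill4_of {G : Type*} [Group G] [Finite G] {x : G} (hx : orderOf x = r) (hG : ¬ r ^ 2 ∣ Nat.card G)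
    (hno : ∀ t ∈ normalizer (zpowers x : Set G), t ^ 2 = 1 → t = 1) : Kill 4 r G := by
  right
  have h1 : IsPGroup r (zpowers x) := IsPGroup.of_card (n := 1) (by rw [Nat.card_zpowers, hx, pow_one])
  obtain ⟨Q, hQ⟩ := h1.exists_le_sylow
  obtain ⟨n, hn⟩ := Q.isPGroup'.exists_card_eq
  have hn' : Nat.card (Q : Subgroup G) = r ^ n := hn
  have h2 : zpowers x = (Q : Subgroup G) := by
    apply Subgroup.eq_of_le_of_card_ge hQ
    rw [Nat.card_zpowers, hx, hn']
    have h3 : n ≤ 1 := by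
      by_contra hlt
      apply hG
      refine dvd_trans (pow_dvd_pow r (by omega : 2 ≤ n)) ?_
      rw [← hn']
      exact card_subgroup_dvd_card _
    calc r ^ n ≤ r ^ 1 := Nat.pow_le_pow_right hr.out.pos h3
      _ = r := pow_one r
  refine ⟨Q, fun h4 => ?_⟩
  rw [← h2] at h4
  have : Fact (Nat.Prime 2) := ⟨Nat.prime_two⟩
  obtain ⟨t, ht⟩ := exists_prime_orderOf_dvd_card' (G := normalizer (zpowers x : Set G)) 2
    (dvd_trans (by norm_num) h4)
  have ht2 : t ^ 2 = 1 := by rw [← ht, pow_orderOf_eq_one]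
  have h5 := hno t t.2 (congrArg Subtype.val ht2)
  have h6 : t = 1 := Subtype.ext h5
  rw [h6, orderOf_one] at ht
  norm_num at ht

theorem kill4_spec (hrF : (r : F) ≠ 0) (h5 : 5 ≤ r) (h3 : orderOf (qU F r hrF) = 3)
    (hq : Fintype.card F = 3 ∨ Fintype.card F = 5) : Kill 4 r (ProjectiveSpecialLinearGroup (Fin 4) F) := by
  have h1 := not_dvd_of_order h3 (by norm_num)
  have hd : r ∣ Fintype.card F ^ 3 - 1 := by
    have := dvd_pow_orderOf (F := F) (p := r) hrF
    rwa [h3] at this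
  obtain ⟨K, _, _, _, b, a, hcard, hfin, ha⟩ := exists_cubic hrF h3
  have hx := orderOf_gl b h1 ha
  have h8 : ¬ 8 ∣ Fintype.card F - 1 := by
    rcases hq with h | h <;> rw [h] <;> norm_num
  refine kill4_of (G := ProjectiveSpecialLinearGroup (Fin (3 + 1)) F) hx ?_ (fun t ht ht2 => no_inv b h1 h8 hcard hfin ha ht ht2)
  have h4 := Cfsg.Agent.S0243.result (F := F) rfl 4 (by norm_num)
  intro hdiv
  have hdiv' : r ^ 2 ∣ Nat.card (ProjectiveSpecialLinearGroup (Fin 4) F) := hdiv
  simp only [Fin.prod_univ_four] at h4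
  rcases hq with h | h
  · rw [h] at h4 hd
    norm_num at h4 hd
    have hG : Nat.card (ProjectiveSpecialLinearGroup (Fin 4) F) = 6065280 := by omega
    have hr13 : r = 13 := by
      have h6 : r ∣ 2 * 13 := hd
      rcases hr.out.dvd_mul.1 h6 with h7 | h7
      · have := Nat.le_of_dvd (by norm_num) h7; omega
      · exact (Nat.prime_dvd_prime_iff_eq hr.out (by norm_num)).1 h7
    rw [hG, hr13] at hdiv'
    norm_num at hdiv'
  · rw [h] at h4 hd
    norm_num at h4 hd
    have hG : Nat.card (ProjectiveSpecialLinearGroup (Fin 4) F) = 7254000000 := by omega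
    have hr31 : r = 31 := by
      have h6 : r ∣ 4 * 31 := hd
      rcases hr.out.dvd_mul.1 h6 with h7 | h7
      · have := Nat.le_of_dvd (by norm_num) h7; omega
      · exact (Nat.prime_dvd_prime_iff_eq hr.out (by norm_num)).1 h7
    rw [hG, hr31] at hdiv'
    norm_num at hdiv'

theorem kill_cubic (hq : 3 ≤ Fintype.card F) (hrF : (r : F) ≠ 0) (h3 : orderOf (qU F r hrF) = 3) :
    KillAll r (ProjectiveSpecialLinearGroup (Fin 4) F) ∨ KillX r (ProjectiveSpecialLinearGroup (Fin 4) F) ∨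
      Fintype.card F = 3 ∨ Fintype.card F = 5 := by
  by_cases h : 3 ∣ Fintype.card F - 1
  · exact Or.inr (Or.inl (cubic_three hrF h3 h))
  by_cases h' : ∃ s : ℕ, s.Prime ∧ 5 ≤ s ∧ s ∣ Fintype.card F - 1
  · obtain ⟨s, hs, hs5, hsq⟩ := h'
    exact Or.inr (Or.inl (cubic_prime hrF h3 hs hs5 hsq))
  have h2 : Fintype.card F - 1 = 2 ^ (Fintype.card F - 1).primeFactorsList.length := by
    apply Nat.eq_prime_pow_of_unique_prime_dvd (by omega)
    intro d hd hdq
    by_contra h2
    have h5 : 5 ≤ d := by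
      by_contra hlt
      have h12 : d = 3 ∨ d = 4 := by have := hd.two_le; omega
      rcases h12 with h12 | h12
      · exact h (h12 ▸ hdq)
      · rw [h12] at hd; revert hd; decide
    exact h' ⟨d, hd, h5, hdq⟩
  obtain ⟨n, hn⟩ : ∃ n, n = (Fintype.card F - 1).primeFactorsList.length := ⟨_, rfl⟩
  rw [← hn] at h2
  rcases Nat.lt_or_ge n 3 with hlt | hge
  · right; right
    interval_cases n
    · omega
    · omega
    · omega
  · left
    refine cubic_eight hrF h3 ?_
    rw [h2]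
    exact pow_dvd_pow 2 hge

theorem kill_quartic (hq : 3 ≤ Fintype.card F) (hrF : (r : F) ≠ 0) (h4 : orderOf (qU F r hrF) = 4) :
    KillAll r (ProjectiveSpecialLinearGroup (Fin 4) F) ∨ KillX r (ProjectiveSpecialLinearGroup (Fin 4) F) := by
  by_cases h : 4 ∣ Fintype.card F + 1
  · exact Or.inl (kill_four_three_mod hrF h4 h)
  by_cases h' : 3 ∣ Fintype.card F + 1
  · exact Or.inl (kill_four_three_dvd hrF h4 h')
  right
  have hs : ∃ s : ℕ, s.Prime ∧ 5 ≤ s ∧ s ∣ Fintype.card F + 1 := by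
    by_contra hc
    have h2 : Fintype.card F + 1 = 2 ^ (Fintype.card F + 1).primeFactorsList.length := by
      apply Nat.eq_prime_pow_of_unique_prime_dvd (by omega)
      intro d hd hdq
      by_contra h2
      have h5 : 5 ≤ d := by
        by_contra hlt
        have h12 : d = 3 ∨ d = 4 := by have := hd.two_le; omega
        rcases h12 with h12 | h12
        · exact h' (h12 ▸ hdq)
        · rw [h12] at hd; revert hd; decide
      exact hc ⟨d, hd, h5, hdq⟩
    obtain ⟨n, hn⟩ : ∃ n, n = (Fintype.card F + 1).primeFactorsList.length := ⟨_, rfl⟩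
    rw [← hn] at h2
    rcases Nat.lt_or_ge n 2 with hlt | hge
    · interval_cases n
      · omega
      · omega
    · apply h
      rw [h2]
      exact pow_dvd_pow 2 hge
  obtain ⟨s, hs, hs5, hsq⟩ := hs
  exact kill_four_prime hrF h4 hq hs hs5 hsq

omit [Fintype F] hr in
theorem psl4_main [Fintype F] (hq : 3 ≤ Fintype.card F) {r : ℕ} (hr : r.Prime)
    (hd : r ∣ Nat.card (ProjectiveSpecialLinearGroup (Fin 4) F)) (h5 : 5 ≤ r) :
    KillAll r (ProjectiveSpecialLinearGroup (Fin 4) F) ∨ KillX r (ProjectiveSpecialLinearGroup (Fin 4) F) ∨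
      ((Fintype.card F = 3 ∨ Fintype.card F = 5) ∧ Kill 4 r (ProjectiveSpecialLinearGroup (Fin 4) F)) := by
  have : Fact r.Prime := ⟨hr⟩
  by_cases hle : ∀ hrF : (r : F) ≠ 0, orderOf (qU F r hrF) ≤ 2
  · obtain ⟨y, hy⟩ := exists_of_order_le (F := F) (k := 2) (by omega) hle
    exact Or.inl (killAll_sub (F := F) (k := 2) (by omega) hy)
  · push Not at hle
    obtain ⟨hrF, hlt⟩ := hle
    have hlen := orderOf_le_of_dvd (by omega) hrF hd
    have h34 : orderOf (qU F r hrF) = 3 ∨ orderOf (qU F r hrF) = 4 := by omega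
    rcases h34 with h3 | h4
    · rcases kill_cubic hq hrF h3 with h | h | h
      · exact Or.inl h
      · exact Or.inr (Or.inl h)
      · exact Or.inr (Or.inr ⟨h, kill4_spec hrF h5 h3 h⟩)
    · rcases kill_quartic hq hrF h4 with h | h
      · exact Or.inl h
      · exact Or.inr (Or.inl h)

theorem bad3_psl4 (F : Type) [Field F] [Fintype F] (h : 3 ≤ Fintype.card F) :
    Bad3 (ProjectiveSpecialLinearGroup (Fin 4) F) := by
  have ε : Fin 2 ⊕ (Fin 2 ⊕ Fin 0) ≃ Fin 4 := Fintype.equivOfCardEq (by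
    simp only [Fintype.card_sum, Fintype.card_fin])
  exact bad3_psl ε (Or.inr h)

/-- **`PSL_4(q)`, `k = 4`** -/
theorem noTI4_psl4 (F : Type) [Field F] [Fintype F] (h : 3 ≤ Fintype.card F) :
    NoTI 4 (Matrix.ProjectiveSpecialLinearGroup (Fin 4) F) := by
  refine noTI_ofX (fun _ => bad3_psl4 F h) fun r hr h5 hd => ?_
  rcases psl4_main h hr hd h5 with h1 | h1 | ⟨-, h1⟩
  · exact Or.inl (h1.kill 4)
  · exact Or.inr h1
  · exact Or.inl h1

/-- **`PSL_4(q)`, `k = 3`** -/
theorem noTI3_psl4 (F : Type) [Field F] [Fintype F] (h : 3 < Fintype.card F) (h5 : Fintype.card F ≠ 5) :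
    NoTI 3 (Matrix.ProjectiveSpecialLinearGroup (Fin 4) F) := by
  refine noTI_ofX (fun _ => bad3_psl4 F h.le) fun r hr hr5 hd => ?_
  rcases psl4_main h.le hr hd hr5 with h1 | h1 | ⟨h1, -⟩
  · exact Or.inl (h1.kill 3)
  · exact Or.inr h1
  · exfalso
    omega

end Cfsg.Agent.H807.Fx
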