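import Cfsg.Agent.H254.FxTools

/-!
# `Bad3` from an explicit subgroup of order 9, and two more ways to kill a prime
-/

set_option autoImplicit false
set_option linter.style.haveILetI false

namespace Cfsg.Agent.H807.Fx

open Subgroup
open Cfsg.Agent.H254.Fx

variable {G : Type*} [Group G] {k : ℕ} {D : Subgroup G}

theorem Bad.inv {x : G} (h : Bad x) : Bad x⁻¹ := by
  obtain ⟨Y, hY, h1⟩ := h
  exact ⟨Y, by rwa [zpowers_inv], h1⟩

/-- **`Bad3` from an explicit subgroup of order 9**: no condition on the order of `G` -/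
theorem bad3_of_nine [Finite G] {P : Subgroup G} (h9 : Nat.card P = 9)
    (hP : ∀ x ∈ P, orderOf x = 3 → Bad x) : Bad3 G := by
  haveI : Fact (Nat.Prime 3) := ⟨Nat.prime_three⟩
  obtain ⟨d, hd⟩ := exists_prime_orderOf_dvd_card' (G := P) 3 (by rw [h9]; norm_num)
  have hd' : orderOf (d : G) = 3 := by rw [Subgroup.orderOf_coe]; exact hd
  by_cases h27 : 27 ∣ Nat.card G
  · exact bad3_of_card hd' (hP _ d.2 hd') (Or.inl h27)
  · have h1 : IsPGroup 3 P := IsPGroup.of_card (n := 2) (by rw [h9]; norm_num)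
    obtain ⟨Q, hQ⟩ := h1.exists_le_sylow
    obtain ⟨n, hn⟩ := Q.isPGroup'.exists_card_eq
    have h2 : (Q : Subgroup G) = P := by
      symm
      apply Subgroup.eq_of_le_of_card_ge hQ
      rw [h9]
      have h3 : n ≤ 2 := by
        by_contra hlt
        apply h27
        refine dvd_trans ?_ (card_subgroup_dvd_card (Q : Subgroup G))
        change 27 ∣ Nat.card (Q : Subgroup G)
        rw [show Nat.card (Q : Subgroup G) = 3 ^ n from hn]
        exact (show (27 : ℕ) = 3 ^ 3 by norm_num) ▸ pow_dvd_pow 3 (by omega)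
      change Nat.card (Q : Subgroup G) ≤ 9
      rw [show Nat.card (Q : Subgroup G) = 3 ^ n from hn]
      calc 3 ^ n ≤ 3 ^ 2 := Nat.pow_le_pow_right (by norm_num) h3
        _ = 9 := by norm_num
    left
    refine ⟨Q, ?_⟩
    rw [h2]
    exact hP

/-- two more ways to kill the prime `r` -/
def KillX (r : ℕ) (G : Type*) [Group G] : Prop :=
  ∃ x : G, orderOf x = r ∧ (9 ∣ Nat.card (normalizer (zpowers x : Set G)) ∨
    ∃ z ∈ normalizer (zpowers x : Set G), ∃ s : ℕ, s.Prime ∧ 5 ≤ s ∧ orderOf z = s ∧ Bad z)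

theorem OddTI.not_killX [Finite G] (h : OddTI k D) (h3 : ¬ 3 ∣ Nat.card D) {r : ℕ} (hr : r.Prime)
    (h5 : 5 ≤ r) (hd : r ∣ Nat.card D) : ¬ KillX r G := by
  rintro ⟨x, hx, hk⟩
  obtain ⟨E, hE, hcE, hxE⟩ := h.exists_mem hr h5 hd hx
  have hx1 : x ≠ 1 := by
    rintro rfl
    rw [orderOf_one] at hx
    omega
  have hN := hE.normz hxE hx1
  rcases hk with h9 | ⟨z, hz, s, hs, hs5, hzs, hb⟩
  · have h1 := h9.trans (card_dvd_of_le hN)
    rw [card_normalizer_eq] at h1
    have h2 : Nat.Coprime 9 (Nat.card E) := by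
      have h4 : Nat.Coprime 3 (Nat.card E) := by
        rw [Nat.prime_three.coprime_iff_not_dvd, hcE]
        exact h3
      exact Nat.Coprime.pow_left 2 h4
    have h5 := (h2.dvd_of_dvd_mul_left h1).trans hE.idx
    omega
  · have h1 := hE.mem_of_prime (hN hz) hs hs5 hzs
    refine hE.not_bad h1 ?_ hb
    rintro rfl
    rw [orderOf_one] at hzs
    omega

/-- the criterion with the additional alternatives -/
theorem noTI_ofX [Finite G] (hb : 3 ∣ Nat.card G → Bad3 G)
    (hk : ∀ r : ℕ, r.Prime → 5 ≤ r → r ∣ Nat.card G → Kill k r G ∨ KillX r G) : NoTI k G := by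
  intro D h
  have h3 : ¬ 3 ∣ Nat.card D := by
    intro h1
    exact h.not_three_dvd (hb (h1.trans (card_subgroup_dvd_card D))) h1
  have hne : Nat.card D ≠ 1 := by
    intro h1
    exact h.ne (Subgroup.eq_bot_of_card_eq D h1)
  have h5 : ∀ s : ℕ, s.Prime → s ∣ Nat.card D → 5 ≤ s := by
    intro s hs hsd
    by_contra hlt
    have h12 : s = 2 ∨ s = 3 ∨ s = 4 := by have := hs.two_le; omega
    rcases h12 with h12 | h12 | h12
    · have h4 := h.odd
      rw [← Nat.not_even_iff_odd, even_iff_two_dvd] at h4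
      exact h4 (h12 ▸ hsd)
    · exact h3 (h12 ▸ hsd)
    · rw [h12] at hs; revert hs; decide
  have hmin := Nat.minFac_prime hne
  rcases hk _ hmin (h5 _ hmin (Nat.minFac_dvd _)) ((Nat.minFac_dvd _).trans (card_subgroup_dvd_card D)) with h6 | h6
  · refine h.not_kill h3 hmin (h5 _ hmin (Nat.minFac_dvd _)) (Nat.minFac_dvd _) ?_ h6
    intro t ht _ htd
    exact Nat.minFac_le_of_dvd ht.two_le htd
  · exact OddTI.not_killX h h3 hmin (h5 _ hmin (Nat.minFac_dvd _)) (Nat.minFac_dvd _) h6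

/-- the criterion for rows with the additional alternatives -/
theorem no34_ofX [Finite G] (hb : 3 ∣ Nat.card G → Bad3 G)
    (hk : ∀ r : ℕ, r.Prime → 5 ≤ r → r ∣ Nat.card G → KillAll r G ∨ KillX r G ∨ (Kill 3 r G ∧ Kill 4 r G)) :
    No34 G := by
  constructor
  · refine noTI_ofX hb fun r hr h5 hd => ?_
    rcases hk r hr h5 hd with h | h | h
    · exact Or.inl (h.kill 3)
    · exact Or.inr h
    · exact Or.inl h.1
  · refine noTI_ofX hb fun r hr h5 hd => ?_
    rcases hk r hr h5 hd with h | h | h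
    · exact Or.inl (h.kill 4)
    · exact Or.inr h
    · exact Or.inl h.2

end Cfsg.Agent.H807.Fx
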