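import Cfsg.Agent.H807.Fx.SLTools
import Cfsg.Agent.H807.Fx.Nine

/-!
# `Bad3 (PSL_n(q))` for `n ≥ 5` and for `n = 4`, `q ≥ 3`
-/

set_option autoImplicit false
set_option linter.style.haveILetI false

namespace Cfsg.Agent.H807.Fx

open Matrix Subgroup
open Cfsg.Agent.H254.Fx
open Cfsg.Agent.H104.GoodFam Cfsg.Agent.H104.RowPSL

variable {F : Type} [Field F]

/-- `SL_4` in block form -/
abbrev S4 (F : Type) [Field F] := SpecialLinearGroup (Fin 2 ⊕ Fin 2) F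

/-- the embedding of `SL_4` -/
def hh (F : Type) [Field F] (κ : Type) [Fintype κ] [DecidableEq κ] :
    S4 F →* SpecialLinearGroup (Fin 2 ⊕ (Fin 2 ⊕ κ)) F :=
  (relabel (Equiv.sumAssoc (Fin 2) (Fin 2) κ)).comp (blk (Fin 2 ⊕ Fin 2) κ)

theorem hh_blk (κ : Type) [Fintype κ] [DecidableEq κ] (A : SpecialLinearGroup (Fin 2) F) :
    hh F κ (blk (Fin 2) (Fin 2) A) = blk (Fin 2) (Fin 2 ⊕ κ) A := by
  apply Subtype.ext
  change (fromBlocks (fromBlocks A.1 0 0 1) 0 0 1).submatrix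
    (Equiv.sumAssoc (Fin 2) (Fin 2) κ).symm (Equiv.sumAssoc (Fin 2) (Fin 2) κ).symm =
    fromBlocks A.1 0 0 1
  ext i j
  rcases i with i | i | i <;> rcases j with j | j | j <;> simp [Matrix.one_apply]

section gg

variable {κ ι : Type} [Fintype κ] [DecidableEq κ] [Fintype ι] [DecidableEq ι]

/-- modulo scalars -/
def gg (ε : Fin 2 ⊕ (Fin 2 ⊕ κ) ≃ ι) :
    SpecialLinearGroup (Fin 2 ⊕ (Fin 2 ⊕ κ)) F →* ProjectiveSpecialLinearGroup ι F :=
  (QuotientGroup.mk' (center (SpecialLinearGroup ι F))).comp (relabel ε)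

theorem scalar_of_gg
    {ε : Fin 2 ⊕ (Fin 2 ⊕ κ) ≃ ι} {z : SpecialLinearGroup (Fin 2 ⊕ (Fin 2 ⊕ κ)) F} (h : gg ε z = 1) :
    ∃ c : F, z.1 = Matrix.scalar _ c := by
  have h1 : relabel ε z ∈ center (SpecialLinearGroup ι F) := by
    rwa [← QuotientGroup.eq_one_iff]
  rw [Matrix.SpecialLinearGroup.mem_center_iff] at h1
  obtain ⟨c, -, hc⟩ := h1
  refine ⟨c, ?_⟩
  ext i j
  have h2 := congrFun (congrFun hc (ε i)) (ε j)
  have h3 : (relabel ε z).1 (ε i) (ε j) = z.1 i j := by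
    change z.1.submatrix ε.symm ε.symm (ε i) (ε j) = _
    simp
  rw [← h3, ← h2]
  simp [Matrix.diagonal_apply]

theorem scalar_of_hh {z : S4 F} {c : F} (h : (hh F κ z).1 = Matrix.scalar _ c) : z.1 = Matrix.scalar _ c := by
  have h3 : ∀ i j, (hh F κ z).1 (Equiv.sumAssoc (Fin 2) (Fin 2) κ (.inl i)) (Equiv.sumAssoc (Fin 2) (Fin 2) κ (.inl j)) =
      z.1 i j := by
    intro i j
    change (fromBlocks z.1 0 0 1).submatrix (Equiv.sumAssoc (Fin 2) (Fin 2) κ).symm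
      (Equiv.sumAssoc (Fin 2) (Fin 2) κ).symm (Equiv.sumAssoc (Fin 2) (Fin 2) κ (.inl i))
      (Equiv.sumAssoc (Fin 2) (Fin 2) κ (.inl j)) = _
    rw [submatrix_apply, Equiv.symm_apply_apply, Equiv.symm_apply_apply, fromBlocks_apply₁₁]
  ext i j
  rw [← h3, h]
  simp [Matrix.diagonal_apply]

/-- the embedding of `SL_4` modulo scalars -/
def g4 (ε : Fin 2 ⊕ (Fin 2 ⊕ κ) ≃ ι) : S4 F →* ProjectiveSpecialLinearGroup ι F := (gg ε).comp (hh F κ)

theorem scalar_of_g4 {ε : Fin 2 ⊕ (Fin 2 ⊕ κ) ≃ ι} {z : S4 F} (h : g4 ε z = 1) :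
    ∃ c : F, z.1 = Matrix.scalar _ c := by
  obtain ⟨c, hc⟩ := scalar_of_gg (z := hh F κ z) h
  exact ⟨c, scalar_of_hh hc⟩

end gg

/-! ### The matrices -/

/-- order 3 -/
def z₀ (F : Type) [Field F] : SpecialLinearGroup (Fin 2) F := ⟨!![0, -1; 1, -1], by simp [det_fin_two]⟩

theorem z₀_cube : z₀ F ^ 3 = 1 := by
  apply Subtype.ext
  change (!![0, -1; 1, -1] : Matrix (Fin 2) (Fin 2) F) ^ 3 = 1
  ext i j
  fin_cases i <;> fin_cases j <;> simp [pow_succ, Matrix.mul_apply, Fin.sum_univ_two]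

theorem z₀_ne : z₀ F ≠ 1 := by
  intro h
  have h1 := congrFun (congrFun (congrArg Subtype.val h) 1) 0
  change (1 : F) = 0 at h1
  exact one_ne_zero h1

theorem orderOf_z₀ : orderOf (z₀ F) = 3 := by
  have : Fact (Nat.Prime 3) := ⟨Nat.prime_three⟩
  exact orderOf_eq_prime z₀_cube z₀_ne

theorem coe_z₀_inv : ((z₀ F)⁻¹).1 = !![-1, 1; -1, 0] := by
  change adjugate (!![0, -1; 1, -1] : Matrix (Fin 2) (Fin 2) F) = _
  rw [adjugate_fin_two]
  ext i j
  fin_cases i <;> fin_cases j <;> simp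

/-- the element `diag(A, B)` -/
def dd (F : Type) [Field F] : SpecialLinearGroup (Fin 2) F × SpecialLinearGroup (Fin 2) F →* S4 F where
  toFun p := ⟨fromBlocks p.1.1 0 0 p.2.1, by
    rw [det_fromBlocks_zero₂₁, p.1.2, p.2.2, one_mul]⟩
  map_one' := by
    apply Subtype.ext
    exact fromBlocks_one
  map_mul' p q := by
    apply Subtype.ext
    change fromBlocks (p.1.1 * q.1.1) 0 0 (p.2.1 * q.2.1) = fromBlocks p.1.1 0 0 p.2.1 * fromBlocks q.1.1 0 0 q.2.1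
    rw [fromBlocks_multiply]
    simp

theorem coe_dd (p : SpecialLinearGroup (Fin 2) F × SpecialLinearGroup (Fin 2) F) :
    (dd F p).1 = fromBlocks p.1.1 0 0 p.2.1 := rfl

theorem dd_one (A : SpecialLinearGroup (Fin 2) F) : dd F (A, 1) = blk (Fin 2) (Fin 2) A := rfl

theorem dd_one' (A : SpecialLinearGroup (Fin 2) F) : dd F (1, A) = blk₂ (Fin 2) (Fin 2) A := rfl

/-- the involution inverting `z₀` (determinant `-1`) -/
def w₀ (F : Type) [Field F] : Matrix (Fin 2) (Fin 2) F := !![0, 1; 1, 0]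

theorem w₀_sq : w₀ F * w₀ F = 1 := by
  ext i j
  fin_cases i <;> fin_cases j <;> simp [w₀, Matrix.mul_apply, Fin.sum_univ_two]

theorem det_w₀ : (w₀ F).det = -1 := by simp [w₀, det_fin_two]

/-- `w₀ z₀ w₀ = z₀⁻¹` -/
theorem w₀_conj : w₀ F * (z₀ F).1 * w₀ F = ((z₀ F)⁻¹).1 := by
  rw [coe_z₀_inv]
  change w₀ F * !![0, -1; 1, -1] * w₀ F = _
  ext i j
  fin_cases i <;> fin_cases j <;> simp [w₀, Matrix.mul_apply, Fin.sum_univ_two]

/-- the inverting element of `SL_4` -/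
def uu (F : Type) [Field F] : S4 F := ⟨fromBlocks (w₀ F) 0 0 (w₀ F), by
  rw [det_fromBlocks_zero₂₁, det_w₀]; ring⟩

/-- the elements of order 3 of the second kind: `M = 1` or `M = w₀` -/
def xx (M : Matrix (Fin 2) (Fin 2) F) (hM : M * M = 1) : S4 F := ⟨fromBlocks (z₀ F).1 0 0 (M * (z₀ F).1 * M), by
  rw [det_fromBlocks_zero₂₁, det_mul, det_mul, (z₀ F).2]
  have h1 : M.det * M.det = 1 := by rw [← det_mul, hM, det_one]
  rw [one_mul, mul_one, h1]⟩

theorem uu_conj (M : Matrix (Fin 2) (Fin 2) F) (hM : M * M = 1) (hMw : M * w₀ F = w₀ F * M) :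
    uu F * xx M hM * (uu F)⁻¹ = (xx M hM)⁻¹ := by
  have h0 : (z₀ F).1 * (w₀ F * (z₀ F).1 * w₀ F) = 1 := by
    rw [w₀_conj]
    exact congrArg Subtype.val (mul_inv_cancel (z₀ F))
  have h1 : xx M hM * (uu F * xx M hM) = uu F := by
    apply Subtype.ext
    change fromBlocks (z₀ F).1 0 0 (M * (z₀ F).1 * M) * (fromBlocks (w₀ F) 0 0 (w₀ F) *
      fromBlocks (z₀ F).1 0 0 (M * (z₀ F).1 * M)) = fromBlocks (w₀ F) 0 0 (w₀ F)
    rw [fromBlocks_multiply, fromBlocks_multiply]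
    simp only [Matrix.mul_zero, Matrix.zero_mul, add_zero, zero_add]
    have h2 : (z₀ F).1 * (w₀ F * (z₀ F).1) = w₀ F := by
      calc (z₀ F).1 * (w₀ F * (z₀ F).1) = (z₀ F).1 * (w₀ F * (z₀ F).1) * (w₀ F * w₀ F) := by rw [w₀_sq, Matrix.mul_one]
        _ = (z₀ F).1 * (w₀ F * (z₀ F).1 * w₀ F) * w₀ F := by simp only [Matrix.mul_assoc]
        _ = w₀ F := by rw [h0, Matrix.one_mul]
    have h3 : M * (z₀ F).1 * M * (w₀ F * (M * (z₀ F).1 * M)) = w₀ F := by
      calc M * (z₀ F).1 * M * (w₀ F * (M * (z₀ F).1 * M))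
          = M * (z₀ F).1 * ((M * w₀ F) * M) * (z₀ F).1 * M := by simp only [Matrix.mul_assoc]
        _ = M * (z₀ F).1 * (w₀ F * (M * M)) * (z₀ F).1 * M := by rw [hMw]; simp only [Matrix.mul_assoc]
        _ = M * ((z₀ F).1 * (w₀ F * (z₀ F).1)) * M := by rw [hM, Matrix.mul_one]; simp only [Matrix.mul_assoc]
        _ = (M * w₀ F) * M := by rw [h2]
        _ = w₀ F := by rw [hMw, Matrix.mul_assoc, hM, Matrix.mul_one]
    rw [h2, h3]
  rw [mul_inv_eq_iff_eq_mul, eq_inv_mul_iff_mul_eq]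
  exact h1

/-! ### Elements commuting with `xx` -/

/-- `A ⊗ 1` twisted by `M` -/
def tm (M : Matrix (Fin 2) (Fin 2) F) (a b c d : F) : Matrix (Fin 2 ⊕ Fin 2) (Fin 2 ⊕ Fin 2) F :=
  fromBlocks (a • 1) (b • M) (c • M) (d • 1)

theorem tm_mul {M : Matrix (Fin 2) (Fin 2) F} (hM : M * M = 1) (a b c d a' b' c' d' : F) :
    tm M a b c d * tm M a' b' c' d' = tm M (a * a' + b * c') (a * b' + b * d') (c * a' + d * c') (c * b' + d * d') := by
  unfold tm
  rw [fromBlocks_multiply]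
  simp only [smul_mul_assoc, mul_smul_comm, hM, Matrix.one_mul, Matrix.mul_one, smul_smul, ← add_smul,
    mul_comm]

theorem det_tm_one (a b c d : F) : (tm (1 : Matrix (Fin 2) (Fin 2) F) a b c d).det = (a * d - b * c) ^ 2 := by
  have h : (tm (1 : Matrix (Fin 2) (Fin 2) F) a b c d).submatrix (finSumFinEquiv (m := 2) (n := 2)).symm
      (finSumFinEquiv (m := 2) (n := 2)).symm = !![a, 0, b, 0; 0, a, 0, b; c, 0, d, 0; 0, c, 0, d] := by
    have e0 : (finSumFinEquiv (m := 2) (n := 2)).symm 0 = Sum.inl 0 := rfl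
    have e1 : (finSumFinEquiv (m := 2) (n := 2)).symm 1 = Sum.inl 1 := rfl
    have e2 : (finSumFinEquiv (m := 2) (n := 2)).symm 2 = Sum.inr 0 := rfl
    have e3 : (finSumFinEquiv (m := 2) (n := 2)).symm 3 = Sum.inr 1 := rfl
    ext i j
    rw [submatrix_apply]
    fin_cases i <;> fin_cases j <;> simp [e0, e1, e2, e3, tm, -finSumFinEquiv_symm_apply_castAdd,
      -finSumFinEquiv_symm_apply_natAdd]
  rw [← det_submatrix_equiv_self (finSumFinEquiv (m := 2) (n := 2)).symm, h]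
  simp [det_succ_row_zero, Fin.sum_univ_succ, Fin.succAbove]
  ring

theorem det_tm {M : Matrix (Fin 2) (Fin 2) F} (hM : M * M = 1) (a b c d : F) : (tm M a b c d).det = (a * d - b * c) ^ 2 := by
  have h1 : tm M a b c d = fromBlocks 1 0 0 M * tm 1 a b c d * fromBlocks 1 0 0 M := by
    unfold tm
    rw [fromBlocks_multiply, fromBlocks_multiply]
    simp [hM]
  have h4 : M.det * M.det = 1 := by rw [← det_mul, hM, det_one]
  rw [h1, det_mul, det_mul, det_tm_one, det_fromBlocks_zero₂₁, det_one]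
  linear_combination (a * d - b * c) ^ 2 * h4

/-- `SL_2 → SL_4`, `A ↦ A ⊗ 1` (twisted by `M`) -/
def tau (M : Matrix (Fin 2) (Fin 2) F) (hM : M * M = 1) : SpecialLinearGroup (Fin 2) F →* S4 F where
  toFun A := ⟨tm M (A.1 0 0) (A.1 0 1) (A.1 1 0) (A.1 1 1), by
    rw [det_tm hM, ← det_fin_two, A.2, one_pow]⟩
  map_one' := by
    apply Subtype.ext
    change tm M ((1 : Matrix (Fin 2) (Fin 2) F) 0 0) ((1 : Matrix (Fin 2) (Fin 2) F) 0 1)
      ((1 : Matrix (Fin 2) (Fin 2) F) 1 0) ((1 : Matrix (Fin 2) (Fin 2) F) 1 1) = 1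
    simp [tm]
  map_mul' A B := by
    apply Subtype.ext
    change tm M ((A.1 * B.1) 0 0) ((A.1 * B.1) 0 1) ((A.1 * B.1) 1 0) ((A.1 * B.1) 1 1) = _ * _
    rw [tm_mul hM]
    simp only [Matrix.mul_apply, Fin.sum_univ_two]

theorem tau_comm (M : Matrix (Fin 2) (Fin 2) F) (hM : M * M = 1) (A : SpecialLinearGroup (Fin 2) F) :
    tau M hM A * xx M hM = xx M hM * tau M hM A := by
  apply Subtype.ext
  change fromBlocks (A.1 0 0 • 1) (A.1 0 1 • M) (A.1 1 0 • M) (A.1 1 1 • 1) *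
    fromBlocks (z₀ F).1 0 0 (M * (z₀ F).1 * M) = fromBlocks (z₀ F).1 0 0 (M * (z₀ F).1 * M) *
      fromBlocks (A.1 0 0 • 1) (A.1 0 1 • M) (A.1 1 0 • M) (A.1 1 1 • 1)
  rw [fromBlocks_multiply, fromBlocks_multiply]
  simp only [Matrix.mul_zero, Matrix.zero_mul, smul_mul_assoc, mul_smul_comm, Matrix.one_mul,
    Matrix.mul_one, smul_zero, add_zero, zero_add]
  have h1 : M * (M * (z₀ F).1 * M) = (z₀ F).1 * M := by
    rw [← Matrix.mul_assoc, ← Matrix.mul_assoc, hM, Matrix.one_mul]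
  have h2 : M * (z₀ F).1 * M * M = M * (z₀ F).1 := by
    rw [Matrix.mul_assoc, hM, Matrix.mul_one]
  rw [h1, h2]

theorem tau_scalar {M : Matrix (Fin 2) (Fin 2) F} {hM : M * M = 1} {A : SpecialLinearGroup (Fin 2) F} {c : F}
    (h : (tau M hM A).1 = Matrix.scalar _ c) : A = 1 ∨ A = -1 := by
  have hM0 : M ≠ 0 := by
    rintro rfl
    rw [Matrix.mul_zero] at hM
    exact zero_ne_one hM
  have h' : fromBlocks (A.1 0 0 • 1) (A.1 0 1 • M) (A.1 1 0 • M) (A.1 1 1 • 1) =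
      fromBlocks (Matrix.scalar (Fin 2) c) 0 0 (Matrix.scalar (Fin 2) c) := by
    refine Eq.trans h ?_
    ext i j
    rcases i with i | i <;> rcases j with j | j <;> simp [Matrix.diagonal_apply]
  obtain ⟨h1, h2, h3, h4⟩ := fromBlocks_inj.1 h'
  have e1 : A.1 0 0 = c := by
    have := congrFun (congrFun h1 0) 0
    simpa using this
  have e4 : A.1 1 1 = c := by
    have := congrFun (congrFun h4 0) 0
    simpa using this
  have e2 : A.1 0 1 = 0 := (smul_eq_zero.1 h2).resolve_right hM0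
  have e3 : A.1 1 0 = 0 := (smul_eq_zero.1 h3).resolve_right hM0
  have hd : c * c = 1 := by
    have := A.2
    rw [det_fin_two, e1, e4, e2, e3] at this
    simpa using this
  rcases mul_self_eq_one_iff.1 hd with hc | hc
  · left
    apply Subtype.ext
    ext i j
    fin_cases i <;> fin_cases j
    · exact e1.trans hc
    · exact e2
    · exact e3
    · exact e4.trans hc
  · right
    apply Subtype.ext
    ext i j
    fin_cases i <;> fin_cases j
    · change A.1 0 0 = (-1 : Matrix (Fin 2) (Fin 2) F) 0 0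
      rw [e1, hc]; simp
    · change A.1 0 1 = (-1 : Matrix (Fin 2) (Fin 2) F) 0 1
      rw [e2]; simp
    · change A.1 1 0 = (-1 : Matrix (Fin 2) (Fin 2) F) 1 0
      rw [e3]; simp
    · change A.1 1 1 = (-1 : Matrix (Fin 2) (Fin 2) F) 1 1
      rw [e4, hc]; simp

/-- the transvections commuting with `xx` -/
def ups (M : Matrix (Fin 2) (Fin 2) F) : Multiplicative (F × F) →* S4 F where
  toFun p := ⟨fromBlocks 1 ((p.toAdd.1 • (1 : Matrix (Fin 2) (Fin 2) F) + p.toAdd.2 • (z₀ F).1) * M) 0 1, by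
    rw [det_fromBlocks_zero₂₁, det_one, one_mul]⟩
  map_one' := by
    apply Subtype.ext
    change fromBlocks 1 (((0 : F) • (1 : Matrix (Fin 2) (Fin 2) F) + (0 : F) • (z₀ F).1) * M) 0 1 = 1
    simp
  map_mul' p q := by
    apply Subtype.ext
    change fromBlocks 1 (((p.toAdd.1 + q.toAdd.1) • (1 : Matrix (Fin 2) (Fin 2) F) +
      (p.toAdd.2 + q.toAdd.2) • (z₀ F).1) * M) 0 1 = fromBlocks 1 _ 0 1 * fromBlocks 1 _ 0 1
    rw [fromBlocks_multiply]
    simp only [Matrix.mul_zero, Matrix.zero_mul, add_zero, zero_add, Matrix.one_mul, Matrix.mul_one]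
    congr 1
    rw [← Matrix.add_mul]
    congr 1
    rw [add_smul, add_smul]
    abel

theorem ups_comm (M : Matrix (Fin 2) (Fin 2) F) (hM : M * M = 1) (p : Multiplicative (F × F)) :
    ups M p * xx M hM = xx M hM * ups M p := by
  apply Subtype.ext
  change fromBlocks 1 ((p.toAdd.1 • (1 : Matrix (Fin 2) (Fin 2) F) + p.toAdd.2 • (z₀ F).1) * M) 0 1 *
    fromBlocks (z₀ F).1 0 0 (M * (z₀ F).1 * M) = fromBlocks (z₀ F).1 0 0 (M * (z₀ F).1 * M) *
      fromBlocks 1 ((p.toAdd.1 • (1 : Matrix (Fin 2) (Fin 2) F) + p.toAdd.2 • (z₀ F).1) * M) 0 1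
  rw [fromBlocks_multiply, fromBlocks_multiply]
  simp only [Matrix.mul_zero, Matrix.zero_mul, add_zero, zero_add, Matrix.one_mul, Matrix.mul_one]
  have h1 : (p.toAdd.1 • (1 : Matrix (Fin 2) (Fin 2) F) + p.toAdd.2 • (z₀ F).1) * M * (M * (z₀ F).1 * M) =
      (z₀ F).1 * ((p.toAdd.1 • (1 : Matrix (Fin 2) (Fin 2) F) + p.toAdd.2 • (z₀ F).1) * M) := by
    calc (p.toAdd.1 • (1 : Matrix (Fin 2) (Fin 2) F) + p.toAdd.2 • (z₀ F).1) * M * (M * (z₀ F).1 * M)
        = (p.toAdd.1 • (1 : Matrix (Fin 2) (Fin 2) F) + p.toAdd.2 • (z₀ F).1) * (M * M) * (z₀ F).1 * M := by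
          simp only [Matrix.mul_assoc]
      _ = (p.toAdd.1 • (1 : Matrix (Fin 2) (Fin 2) F) + p.toAdd.2 • (z₀ F).1) * (z₀ F).1 * M := by
          rw [hM, Matrix.mul_one]
      _ = _ := by
          rw [Matrix.add_mul, ← Matrix.mul_assoc, Matrix.mul_add]
          simp only [smul_mul_assoc, mul_smul_comm, Matrix.one_mul, Matrix.mul_one]
  rw [h1]

theorem ups_scalar {M : Matrix (Fin 2) (Fin 2) F} (hM : M * M = 1) {p : Multiplicative (F × F)} {c : F}
    (h : (ups M p).1 = Matrix.scalar _ c) : p = 1 := by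
  have h' : fromBlocks 1 ((p.toAdd.1 • (1 : Matrix (Fin 2) (Fin 2) F) + p.toAdd.2 • (z₀ F).1) * M) 0 1 =
      fromBlocks (Matrix.scalar (Fin 2) c) 0 0 (Matrix.scalar (Fin 2) c) := by
    refine Eq.trans h ?_
    ext i j
    rcases i with i | i <;> rcases j with j | j <;> simp [Matrix.diagonal_apply]
  obtain ⟨-, h2, -, -⟩ := fromBlocks_inj.1 h'
  have h3 : p.toAdd.1 • (1 : Matrix (Fin 2) (Fin 2) F) + p.toAdd.2 • (z₀ F).1 = 0 := by
    calc p.toAdd.1 • (1 : Matrix (Fin 2) (Fin 2) F) + p.toAdd.2 • (z₀ F).1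
        = (p.toAdd.1 • (1 : Matrix (Fin 2) (Fin 2) F) + p.toAdd.2 • (z₀ F).1) * M * M := by
          rw [Matrix.mul_assoc, hM, Matrix.mul_one]
      _ = 0 := by rw [h2, Matrix.zero_mul]
  have e1 := congrFun (congrFun h3 0) 0
  have e2 := congrFun (congrFun h3 1) 0
  have f1 : (z₀ F).1 0 0 = 0 := rfl
  have f2 : (z₀ F).1 1 0 = 1 := rfl
  simp [f1] at e1
  simp [f2] at e2
  apply Multiplicative.toAdd.injective
  exact Prod.ext e1 e2

end Cfsg.Agent.H807.Fx
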