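import Cfsg.Agent.H807.Fx.FourTorus
import Mathlib.RingTheory.Norm.Transitivity

/-!
# `PSL_4(q)`: the primes dividing `q^2 + 1`, a prime `s ≥ 5` dividing `q + 1`
-/

set_option autoImplicit false
set_option linter.style.haveILetI false

namespace Cfsg.Agent.H807.Fx

open Matrix Subgroup
open Cfsg.Agent.H254.Fx
open Cfsg.Agent.H104.GoodFam Cfsg.Agent.H104.RowPSL Cfsg.Agent.H104.FieldModel
open Cfsg.Agent.H104.RankBound (qU qU_coe)

variable {F : Type} [Field F] [Fintype F]

section ext

variable {L : Type} [Field L] [Finite L] [Algebra F L] (b : Module.Basis (Fin 2) F L)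

/-- restriction of scalars -/
noncomputable def rs : Matrix (Fin 2) (Fin 2) L →+* Matrix (Fin 2 × Fin 2) (Fin 2 × Fin 2) F :=
  (compRingEquiv (Fin 2) (Fin 2) F).toRingHom.comp
    (RingHom.mapMatrix (Algebra.leftMulMatrix b : L →+* Matrix (Fin 2) (Fin 2) F))

theorem rs_apply (M : Matrix (Fin 2) (Fin 2) L) (i j k l : Fin 2) :
    rs b M (i, k) (j, l) = Algebra.leftMulMatrix b (M i j) k l := rfl

theorem det_rs (M : Matrix (Fin 2) (Fin 2) L) : (rs b M).det = Algebra.norm F M.det := by
  have h := Matrix.det_det (R := F) (S := L) (M := M) (Algebra.leftMulMatrix b : L →+* Matrix (Fin 2) (Fin 2) F)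
  rw [Algebra.norm_eq_matrix_det b]
  exact h.symm

theorem rs_scalar {M : Matrix (Fin 2) (Fin 2) L} {c : F} (h : rs b M = Matrix.scalar _ c) :
    M = Matrix.scalar _ (algebraMap F L c) := by
  ext i j
  apply Algebra.leftMulMatrix_injective b
  ext k l
  have h1 := congrFun (congrFun h (i, k)) (j, l)
  rw [rs_apply] at h1
  rw [h1]
  by_cases hij : i = j
  · subst hij
    rw [scalar_apply, scalar_apply, diagonal_apply_eq, AlgHom.commutes]
    by_cases hkl : k = l
    · subst hkl
      simp [Algebra.algebraMap_eq_smul_one]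
    · rw [diagonal_apply_ne _ (by simp [hkl])]
      simp [Algebra.algebraMap_eq_smul_one, Matrix.one_apply, hkl]
  · rw [scalar_apply, scalar_apply, diagonal_apply_ne _ (by simp [hij]), diagonal_apply_ne _ hij, map_zero]
    rfl

/-- the subgroup of `GL_2(L)` -/
noncomputable def HL (F L : Type) [Field F] [Field L] [Algebra F L] : Subgroup (GL (Fin 2) L) :=
  ((Units.map (Algebra.norm F : L →* F)).comp GeneralLinearGroup.det).ker

/-- into `SL_4(F)` -/
noncomputable def rS : HL F L →* SpecialLinearGroup (Fin 2 × Fin 2) F where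
  toFun M := ⟨rs b (M : GL (Fin 2) L).1, by
    rw [det_rs]
    exact congrArg Units.val (M.2 : Units.map (Algebra.norm F : L →* F) (GeneralLinearGroup.det (M : GL (Fin 2) L)) = 1)⟩
  map_one' := Subtype.ext (map_one (rs b))
  map_mul' x y := Subtype.ext (map_mul (rs b) (x : GL (Fin 2) L).1 (y : GL (Fin 2) L).1)

/-- `Fin 2 × Fin 2 ≃ Fin 4` -/
def e4 : Fin 2 × Fin 2 ≃ Fin 4 := finProdFinEquiv

/-- modulo scalars -/
noncomputable def rP : HL F L →* ProjectiveSpecialLinearGroup (Fin 4) F :=
  (QuotientGroup.mk' (center (SpecialLinearGroup (Fin 4) F))).comp ((relabel e4).comp (rS b))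

theorem rP_eq_one {M : HL F L} (h : rP b M = 1) : ∃ c : F, (M : GL (Fin 2) L).1 = Matrix.scalar _ (algebraMap F L c) := by
  obtain ⟨c, -, hc⟩ := (mk_eq_one_iff _).1 h
  refine ⟨c, rs_scalar b ?_⟩
  rw [MonoidHom.comp_apply] at hc
  have h2 : ∀ i j, (relabel e4 (rS b M)).1 (e4 i) (e4 j) = (rS b M).1 i j := by
    intro i j
    change (rS b M).1.submatrix e4.symm e4.symm (e4 i) (e4 j) = _
    rw [submatrix_apply, Equiv.symm_apply_apply, Equiv.symm_apply_apply]
  ext i j
  have h3 := h2 i j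
  rw [hc] at h3
  change _ = rs b (M : GL (Fin 2) L).1 i j at h3
  rw [← h3]
  simp [Matrix.diagonal_apply]

omit [Fintype F] [Finite L] in
theorem mem_HL {M : GL (Fin 2) L} : M ∈ HL F L ↔ Algebra.norm F (M.1.det) = 1 := by
  rw [HL, MonoidHom.mem_ker]
  exact Units.ext_iff

/-- `SL_2(L)` -/
noncomputable def iL (F L : Type) [Field F] [Field L] [Algebra F L] : SpecialLinearGroup (Fin 2) L →* HL F L :=
  (SpecialLinearGroup.toGL).codRestrict (HL F L) fun M => by
    rw [mem_HL]
    change Algebra.norm F (M.1.det) = 1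
    rw [M.2, map_one]

omit [Fintype F] [Finite L] in
theorem coe_iL (M : SpecialLinearGroup (Fin 2) L) : (iL F L M : GL (Fin 2) L).1 = M.1 := rfl

theorem rP_iL {M : SpecialLinearGroup (Fin 2) L} (h : rP b (iL F L M) = 1) : M = 1 ∨ M = -1 := by
  obtain ⟨c, hc⟩ := rP_eq_one b h
  rw [coe_iL] at hc
  have h1 : algebraMap F L c * algebraMap F L c = 1 := by
    have h2 := M.2
    rw [hc] at h2
    simpa [pow_two] using h2
  rcases mul_self_eq_one_iff.1 h1 with h3 | h3
  · left
    apply Subtype.ext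
    rw [hc, h3, map_one]
    rfl
  · right
    apply Subtype.ext
    rw [hc, h3, map_neg, map_one]
    rfl

theorem eight_dvd_iL (h3 : 3 ≤ Fintype.card F) (hL : Nat.card L = Fintype.card F ^ 2) :
    8 ∣ Nat.card ((rP b).comp (iL F L)).range := by
  haveI : Fintype L := Fintype.ofFinite L
  have h1 := card_neg_le ((rP b).comp (iL F L)).ker (by
    intro A hA
    rw [MonoidHom.mem_ker] at hA
    exact rP_iL b hA)
  have h2 := card_mul_index ((rP b).comp (iL F L)).ker
  rw [index_ker] at h2
  have h4 : 16 ∣ Nat.card (SpecialLinearGroup (Fin 2) L) := by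
    rw [card_SL_two, ← Nat.card_eq_fintype_card (α := L), hL]
    rcases Nat.even_or_odd (Fintype.card F) with he | ho
    · refine Dvd.dvd.mul_right ?_ _
      have := pow_dvd_pow_of_dvd (four_dvd_of_even he h3) 2
      simpa using this
    · refine Dvd.dvd.mul_left ?_ _
      have h5 := eight_dvd_sq ho
      have h6 : (Fintype.card F ^ 2) ^ 2 - 1 = (Fintype.card F ^ 2 - 1) * (Fintype.card F ^ 2 + 1) := by
        have h3 : 1 ≤ Fintype.card F ^ 2 := Nat.one_le_pow _ _ Fintype.card_pos
        obtain ⟨k, hk⟩ : ∃ k, Fintype.card F ^ 2 = k + 1 := ⟨Fintype.card F ^ 2 - 1, by omega⟩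
        rw [hk, Nat.sub_eq_iff_eq_add (Nat.one_le_pow _ _ (by omega)), Nat.add_sub_cancel]
        ring
      rw [h6]
      have h7 : 2 ∣ Fintype.card F ^ 2 + 1 := by
        have := ho.pow (n := 2)
        obtain ⟨k, hk⟩ := this
        exact ⟨k + 1, by omega⟩
      exact mul_dvd_mul h5 h7
  rw [← h2] at h4
  rcases h1 with h1 | h1
  · rw [h1] at h4; omega
  · rw [h1] at h4; omega

/-- scalars -/
noncomputable def scG (L : Type) [Field L] : Lˣ →* GL (Fin 2) L :=
  Units.map ((Matrix.scalar (Fin 2) : L →+* Matrix (Fin 2) (Fin 2) L) : L →* Matrix (Fin 2) (Fin 2) L)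

theorem coe_scG (L : Type) [Field L] (a : Lˣ) : (scG L a).1 = Matrix.scalar (Fin 2) (a : L) := rfl

theorem det_scG (L : Type) [Field L] (a : Lˣ) : (scG L a).1.det = (a : L) ^ 2 := by
  rw [coe_scG]
  simp

omit [Fintype F] [Finite L] in
theorem scG_mem (a : (Units.map (Algebra.norm F : L →* F)).ker) : scG L a ∈ HL F L := by
  rw [mem_HL, det_scG, map_pow]
  have h2 : Algebra.norm F ((a : Lˣ) : L) = 1 := congrArg Units.val (MonoidHom.mem_ker.1 a.2)
  rw [h2, one_pow]

/-- the scalars of norm 1 -/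
noncomputable def sL (F L : Type) [Field F] [Field L] [Algebra F L] :
    (Units.map (Algebra.norm F : L →* F)).ker →* HL F L where
  toFun a := ⟨scG L a, scG_mem a⟩
  map_one' := Subtype.ext (map_one (scG L))
  map_mul' x y := Subtype.ext (map_mul (scG L) (x : Lˣ) (y : Lˣ))

theorem coe_sL (a : (Units.map (Algebra.norm F : L →* F)).ker) :
    (sL F L a : GL (Fin 2) L).1 = Matrix.scalar (Fin 2) ((a : Lˣ) : L) := rfl

theorem sL_comm (a : (Units.map (Algebra.norm F : L →* F)).ker) (M : HL F L) : M * sL F L a = sL F L a * M := by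
  apply Subtype.ext
  apply Units.ext
  change (M : GL (Fin 2) L).1 * Matrix.scalar (Fin 2) ((a : Lˣ) : L) = Matrix.scalar (Fin 2) ((a : Lˣ) : L) * (M : GL (Fin 2) L).1
  exact ((Matrix.scalar_commute _ (fun r => Commute.all _ _) _).eq).symm

end ext

/-- a prime `s ≥ 5` dividing `q + 1` -/
theorem kill_four_prime {r : ℕ} [hr : Fact r.Prime] (hrF : (r : F) ≠ 0) (h4 : orderOf (qU F r hrF) = 4)
    (h3 : 3 ≤ Fintype.card F) {s : ℕ} (hs : s.Prime) (hs5 : 5 ≤ s) (hsq : s ∣ Fintype.card F + 1) :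
    KillX r (ProjectiveSpecialLinearGroup (Fin 4) F) := by
  haveI : Fact s.Prime := ⟨hs⟩
  have hd : r ∣ Fintype.card F ^ 4 - 1 := by
    have := dvd_pow_orderOf (F := F) (p := r) hrF
    rwa [h4] at this
  have h1 := not_dvd_of_order h4 (by norm_num)
  obtain ⟨L, _, _, _, hcard, hfin, ⟨b⟩⟩ := exists_ext F (e := 2) (by norm_num)
  haveI : Fintype L := Fintype.ofFinite L
  have hs1 : ¬ s ∣ Fintype.card F - 1 := by
    intro h
    have h5 : s ∣ 2 := by
      have h6 := Nat.dvd_sub hsq h
      have h7 : Fintype.card F + 1 - (Fintype.card F - 1) = 2 := by omega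
      rwa [h7] at h6
    have := Nat.le_of_dvd (by norm_num) h5
    omega
  -- `x`
  obtain ⟨y, hy⟩ := exists_prime_orderOf_dvd_card' (G := SpecialLinearGroup (Fin 2) L) r (by
    rw [card_SL_two, ← Nat.card_eq_fintype_card (α := L), hcard, ← pow_mul]
    exact Dvd.dvd.mul_left hd _)
  have hyr : y ^ r = 1 := by rw [← hy, pow_orderOf_eq_one]
  have hr2 : r ≠ 2 := by
    rintro rfl
    apply mod_of_four h4 1 (by norm_num) (by norm_num)
    rw [pow_one]
    have h5 : ¬ 2 ∣ Fintype.card F := by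
      intro h6
      apply hrF
      exact_mod_cast two_eq_zero_of_even (F := F) (even_iff_two_dvd.2 h6)
    have h6 : Fintype.card F % 2 = 1 := by omega
    exact h6
  have hx : orderOf (rP b (iL F L y)) = r := by
    refine orderOf_eq_prime ?_ ?_
    · rw [← map_pow, ← map_pow, hyr, map_one, map_one]
    · intro h
      rcases rP_iL b h with h5 | h5
      · rw [h5, orderOf_one] at hy
        exact hr.out.one_lt.ne hy
      · have h6 : y ^ 2 = 1 := by rw [h5]; exact neg_one_sq
        have h7 := orderOf_dvd_of_pow_eq_one h6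
        rw [hy] at h7
        exact hr2 ((Nat.prime_dvd_prime_iff_eq hr.out Nat.prime_two).1 h7)
  -- `z`
  obtain ⟨ζ, hζ⟩ := exists_prime_orderOf_dvd_card' (G := Lˣ) s (by
    rw [Nat.card_units, hcard]
    have h6 : Fintype.card F ^ 2 - 1 = (Fintype.card F + 1) * (Fintype.card F - 1) := by
      have := Nat.sq_sub_sq (Fintype.card F) 1
      simpa using this
    rw [h6]
    exact Dvd.dvd.mul_right hsq _)
  have hζs : ζ ^ s = 1 := by rw [← hζ, pow_orderOf_eq_one]
  have hζN := norm_of_prime (F := F) hs1 (a := ζ) hζs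
  have hz : orderOf (rP b (sL F L ⟨ζ, hζN⟩)) = s := by
    refine orderOf_eq_prime ?_ ?_
    · rw [← map_pow, ← map_pow]
      have : (⟨ζ, hζN⟩ : (Units.map (Algebra.norm F : L →* F)).ker) ^ s = 1 := Subtype.ext hζs
      rw [this, map_one, map_one]
    · intro h
      obtain ⟨c, hc⟩ := rP_eq_one b h
      rw [coe_sL] at hc
      have h5 : (ζ : L) = algebraMap F L c := by
        have := congrFun (congrFun hc 0) 0
        simpa using this
      have h6 : c ^ s = 1 := by
        apply (algebraMap F L).injective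
        rw [map_pow, ← h5, map_one, ← Units.val_pow_eq_pow_val, hζs, Units.val_one]
      rw [not_dvd_sub_one_of hs1 h6, map_one] at h5
      have h7 : ζ = 1 := Units.ext h5
      rw [h7, orderOf_one] at hζ
      omega
  refine ⟨_, hx, Or.inr ⟨rP b (sL F L ⟨ζ, hζN⟩), mem_normalizer_of_comm ?_, s, hs, hs5, hz, ?_⟩⟩
  · rw [← map_mul, ← map_mul, sL_comm]
  · refine bad_of_comm_eight (Y := ((rP b).comp (iL F L)).range) ?_ (eight_dvd_iL b h3 hcard)
    rintro _ ⟨M, rfl⟩
    rw [MonoidHom.comp_apply, ← map_mul, ← map_mul, sL_comm]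

end Cfsg.Agent.H807.Fx
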