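import Cfsg.Agent.H807.Fx.FourCubic

/-!
# `PSL_4(q)`, `8 ∤ q - 1`: no involution normalizes a subgroup of order `r ∣ q^2 + q + 1`
-/

set_option autoImplicit false
set_option linter.style.haveILetI false

namespace Cfsg.Agent.H807.Fx

open Matrix Subgroup
open Cfsg.Agent.H254.Fx
open Cfsg.Agent.H104.GoodFam Cfsg.Agent.H104.RowPSL Cfsg.Agent.H104.FieldModel
open Cfsg.Agent.H104.RankBound (qU qU_coe)

section semi

variable {F K : Type} [Field F] [Fintype F] [Field K] [Finite K] [Algebra F K]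

omit [Fintype F] [Finite K] in
/-- a semilinear map -/
theorem exists_algHom {a : K} {a' : K} (ha : Algebra.adjoin F {a} = ⊤) {g : K →ₗ[F] K} (hg : g 1 ≠ 0)
    (h : ∀ y, g (a * y) = a' * g y) : ∃ σ : K →ₐ[F] K, ∀ y, g y = g 1 * σ y := by
  have key : ∀ y : K, ∀ z : K, g (y * z) * g 1 = g y * g z := by
    intro y
    have hy : y ∈ Algebra.adjoin F {a} := by rw [ha]; exact Algebra.mem_top
    induction hy using Algebra.adjoin_induction with
    | mem x hx =>
      rw [Set.mem_singleton_iff] at hx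
      subst hx
      intro z
      have h1 : g x = a' * g 1 := by rw [← h, mul_one]
      rw [h, h1]
      ring
    | algebraMap c =>
      intro z
      have h1 : ∀ z, g (algebraMap F K c * z) = algebraMap F K c * g z := by
        intro z
        rw [← Algebra.smul_def, map_smul, Algebra.smul_def]
      have h2 : g (algebraMap F K c) = algebraMap F K c * g 1 := by rw [← h1, mul_one]
      rw [h1, h2]
      ring
    | add x y _ _ hx hy =>
      intro z
      rw [add_mul, map_add, map_add, add_mul, add_mul, hx, hy]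
    | mul x y _ _ hx hy =>
      intro z
      apply mul_right_cancel₀ hg
      calc g (x * y * z) * g 1 * g 1 = g (x * (y * z)) * g 1 * g 1 := by rw [mul_assoc x]
        _ = g x * (g (y * z) * g 1) := by rw [hx]; ring
        _ = g x * g y * g z := by rw [hy]; ring
        _ = g (x * y) * g 1 * g z := by rw [hx]
        _ = g (x * y) * g z * g 1 := by ring
  refine ⟨AlgHom.ofLinearMap ((LinearMap.mulLeft F (g 1)⁻¹).comp g) ?_ ?_, ?_⟩
  · change (g 1)⁻¹ * g 1 = 1
    exact inv_mul_cancel₀ hg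
  · intro x y
    change (g 1)⁻¹ * g (x * y) = (g 1)⁻¹ * g x * ((g 1)⁻¹ * g y)
    have h1 := key x y
    field_simp
    linear_combination h1
  · intro y
    change g y = g 1 * ((g 1)⁻¹ * g y)
    rw [← mul_assoc, mul_inv_cancel₀ hg, one_mul]

/-- its square is scalar: it is the multiplication with an element of `F` -/
theorem scalar_of_sq (hK : Nat.card K = Fintype.card F ^ 3) (hfin : Module.finrank F K = 3)
    {a : K} {a' : K} (ha : Algebra.adjoin F {a} = ⊤) {g : K →ₗ[F] K}
    (h : ∀ y, g (a * y) = a' * g y) {c : F} (hc : c ≠ 0) (hg : ∀ y, g (g y) = algebraMap F K c * y) :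
    ∃ w : F, ∀ y, g y = algebraMap F K w * y := by
  have hg1 : g 1 ≠ 0 := by
    intro h1
    have h2 := hg 1
    rw [h1, map_zero, mul_one] at h2
    exact hc ((map_eq_zero (algebraMap F K)).1 h2.symm)
  obtain ⟨σ, hσ⟩ := exists_algHom ha hg1 h
  have h1 : g 1 * σ (g 1) = algebraMap F K c := by
    rw [← hσ, hg, mul_one]
  have h2 : ∀ y, σ (σ y) = y := by
    intro y
    have h3 := hg y
    rw [hσ (g y), hσ y, map_mul, ← mul_assoc, h1] at h3
    exact mul_left_cancel₀ (by rw [Ne, map_eq_zero]; exact hc) h3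
  have hbij : Function.Bijective σ := Function.Involutive.bijective h2
  let τ : K ≃ₐ[F] K := AlgEquiv.ofBijective σ hbij
  have hτ2 : τ ^ 2 = 1 := by
    ext y
    rw [pow_two]
    exact h2 y
  have hτ3 : τ ^ 3 = 1 := by
    have h3 : Nat.card (K ≃ₐ[F] K) = 3 := by
      rw [IsGalois.card_aut_eq_finrank, hfin]
    rw [← h3]
    exact pow_card_eq_one'
  have hτ : τ = 1 := by
    have h3 : τ ^ 3 = τ ^ 2 * τ := pow_succ τ 2
    rw [hτ3, hτ2, one_mul] at h3
    exact h3.symm
  have hσ1 : ∀ y, σ y = y := by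
    intro y
    have h3 : τ y = y := by rw [hτ]; rfl
    exact h3
  rw [hσ1] at h1
  -- `g 1` is in `F`
  obtain ⟨k, hk⟩ := Nat.even_mul_succ_self (Fintype.card F)
  have h3 : algebraMap F K (Algebra.norm F (g 1)) = g 1 * algebraMap F K (c ^ k) := by
    have hq : 2 ≤ Fintype.card F := Fintype.one_lt_card
    have h4 : Fintype.card F ^ 3 - 1 = (Fintype.card F - 1) * (1 + 2 * k) := by
      have h5 : 1 + 2 * k = Fintype.card F ^ 2 + Fintype.card F + 1 := by
        have : 2 * k = Fintype.card F * (Fintype.card F).succ := by rw [hk]; ring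
        rw [this, Nat.succ_eq_add_one]; ring
      rw [h5]
      obtain ⟨m, hm⟩ : ∃ m, Fintype.card F = m + 1 := ⟨Fintype.card F - 1, by omega⟩
      rw [hm, Nat.sub_eq_iff_eq_add (Nat.one_le_pow _ _ (by omega)), Nat.add_sub_cancel]
      ring
    rw [FiniteField.algebraMap_norm_eq_pow, hK, Nat.card_eq_fintype_card, h4,
      Nat.mul_div_cancel_left _ (by omega), pow_add, pow_one, pow_mul, pow_two, h1, map_pow]
  refine ⟨Algebra.norm F (g 1) * (c ^ k)⁻¹, fun y => ?_⟩
  rw [hσ, hσ1]
  congr 1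
  have h5 : algebraMap F K (c ^ k) * algebraMap F K (c ^ k)⁻¹ = 1 := by
    rw [← map_mul (algebraMap F K), mul_inv_cancel₀ (pow_ne_zero _ hc), map_one]
  rw [map_mul, h3, mul_assoc, h5, mul_one]

end semi

section block

variable {F K : Type} [Field F] [Fintype F] [Field K] [Finite K] [Algebra F K] (b : Module.Basis (Fin 3) F K)

/-- `SL_4` in block form modulo scalars -/
def Ph (F : Type) [Field F] : SpecialLinearGroup (Fin 3 ⊕ Fin 1) F →* ProjectiveSpecialLinearGroup (Fin (3 + 1)) F :=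
  (QuotientGroup.mk' (center (SpecialLinearGroup (Fin (3 + 1)) F))).comp (relabel finSumFinEquiv)

theorem Ph_surjective : Function.Surjective (Ph F) := by
  intro t
  obtain ⟨τ, rfl⟩ := QuotientGroup.mk'_surjective _ t
  refine ⟨relabel finSumFinEquiv.symm τ, ?_⟩
  rw [Ph, MonoidHom.comp_apply]
  congr 1
  apply Subtype.ext
  change (τ.1.submatrix finSumFinEquiv.symm.symm finSumFinEquiv.symm.symm).submatrix finSumFinEquiv.symm
    finSumFinEquiv.symm = τ.1
  ext i j
  simp

theorem Ph_eq_one {z : SpecialLinearGroup (Fin 3 ⊕ Fin 1) F} (h : Ph F z = 1) : ∃ c : F, z.1 = Matrix.scalar _ c := by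
  obtain ⟨c, -, hc⟩ := (mk_eq_one_iff _).1 h
  refine ⟨c, ?_⟩
  ext i j
  have h2 : (relabel finSumFinEquiv z).1 (finSumFinEquiv i) (finSumFinEquiv j) = z.1 i j := by
    change z.1.submatrix finSumFinEquiv.symm finSumFinEquiv.symm (finSumFinEquiv i) (finSumFinEquiv j) = _
    rw [submatrix_apply, Equiv.symm_apply_apply, Equiv.symm_apply_apply]
  rw [← h2, hc]
  simp [Matrix.diagonal_apply]

theorem Ph_of_scalar {z : SpecialLinearGroup (Fin 3 ⊕ Fin 1) F} {c : F} (h : z.1 = Matrix.scalar _ c) : Ph F z = 1 := by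
  have hc : c ^ (3 + 1) = 1 := by
    have h1 := z.2
    rw [h] at h1
    simpa using h1
  refine (mk_eq_one_iff _).2 ⟨c, hc, ?_⟩
  change z.1.submatrix finSumFinEquiv.symm finSumFinEquiv.symm = _
  rw [h]
  ext i j
  simp [Matrix.diagonal_apply]

theorem adjoin_top {r : ℕ} [hr : Fact r.Prime] (h1 : ¬ r ∣ Fintype.card F - 1) (hfin : Module.finrank F K = 3)
    {a : Kˣ} (ha : orderOf a = r) : Algebra.adjoin F {(a : K)} = ⊤ := by
  have := Subalgebra.isSimpleOrder_of_finrank_prime F K (by rw [hfin]; exact Nat.prime_three)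
  rcases this.eq_bot_or_eq_top (Algebra.adjoin F {(a : K)}) with h | h
  · exfalso
    have h2 : (a : K) ∈ (⊥ : Subalgebra F K) := h ▸ Algebra.subset_adjoin rfl
    obtain ⟨c, hc⟩ := Algebra.mem_bot.1 h2
    have har : a ^ r = 1 := by rw [← ha, pow_orderOf_eq_one]
    have h3 : c ^ r = 1 := by
      apply (algebraMap F K).injective
      rw [map_pow, hc, map_one, ← Units.val_pow_eq_pow_val, har, Units.val_one]
    rw [not_dvd_sub_one_of h1 h3, map_one] at hc
    have h4 : a = 1 := Units.ext hc.symm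
    rw [h4, orderOf_one] at ha
    exact hr.out.one_lt.ne ha
  · exact h

/-- the elements commuting with `A - 1` -/
theorem eq_zero_of_mul {a : K} (ha : a ≠ 1) {Q : Matrix (Fin 3) (Fin 1) F}
    (h : Algebra.leftMulMatrix b a * Q = Q) : Q = 0 := by
  have h1 : Algebra.leftMulMatrix b (a - 1) * Q = 0 := by
    rw [map_sub, map_one, Matrix.sub_mul, h, Matrix.one_mul, sub_self]
  have h2 : Algebra.leftMulMatrix b (a - 1)⁻¹ * (Algebra.leftMulMatrix b (a - 1) * Q) = Q := by
    rw [← Matrix.mul_assoc, ← map_mul, inv_mul_cancel₀ (sub_ne_zero.2 ha), map_one, Matrix.one_mul]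
  rw [← h2, h1, Matrix.mul_zero]

theorem eq_zero_of_mul' {a : K} (ha : a ≠ 1) {R : Matrix (Fin 1) (Fin 3) F}
    (h : R * Algebra.leftMulMatrix b a = R) : R = 0 := by
  have h1 : R * Algebra.leftMulMatrix b (a - 1) = 0 := by
    rw [map_sub, map_one, Matrix.mul_sub, h, Matrix.mul_one, sub_self]
  have h2 : R * Algebra.leftMulMatrix b (a - 1) * Algebra.leftMulMatrix b (a - 1)⁻¹ = R := by
    rw [Matrix.mul_assoc, ← map_mul, mul_inv_cancel₀ (sub_ne_zero.2 ha), map_one, Matrix.mul_one]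
  rw [← h2, h1, Matrix.zero_mul]

theorem glSL_pow {r : ℕ} [hr : Fact r.Prime] (h1 : ¬ r ∣ Fintype.card F - 1) {a : Kˣ} (ha : a ^ r = 1) (j : ℕ) :
    (glSL F 3 (TT b a) ^ j).1 = fromBlocks (Algebra.leftMulMatrix b ((a : K) ^ j)) 0 0 1 := by
  rw [← map_pow, ← map_pow, coe_glSL]
  have h2 : GeneralLinearGroup.det (TT b (a ^ j)) = 1 := by
    apply Units.ext
    change (TT b (a ^ j)).1.det = 1
    rw [TT_det]
    apply not_dvd_sub_one_of h1
    rw [← map_pow, ← Units.val_pow_eq_pow_val, ← pow_mul, mul_comm, pow_mul, ha, one_pow, Units.val_one, map_one]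
  rw [h2, inv_one, Units.val_one, map_one, coe_TT, Units.val_pow_eq_pow_val]

/-- **no involution normalizes `⟨x⟩`** -/
theorem no_inv {r : ℕ} [hr : Fact r.Prime] (h1 : ¬ r ∣ Fintype.card F - 1) (h8 : ¬ 8 ∣ Fintype.card F - 1)
    (hK : Nat.card K = Fintype.card F ^ 3) (hfin : Module.finrank F K = 3) {a : Kˣ} (ha : orderOf a = r)
    {t : ProjectiveSpecialLinearGroup (Fin (3 + 1)) F} (ht : t ∈ normalizer (zpowers (gl F 3 (TT b a)) : Set _))
    (ht2 : t ^ 2 = 1) : t = 1 := by
  have har : a ^ r = 1 := by rw [← ha, pow_orderOf_eq_one]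
  have hx : orderOf (gl F 3 (TT b a)) = r := orderOf_gl b h1 ha
  have hxP : gl F 3 (TT b a) = Ph F (glSL F 3 (TT b a)) := rfl
  obtain ⟨τ, rfl⟩ := Ph_surjective t
  obtain ⟨X, hX⟩ : ∃ X, X = glSL F 3 (TT b a) := ⟨_, rfl⟩
  have hXr : X ^ r = 1 := by rw [hX, ← map_pow, ← map_pow, har, map_one, map_one]
  -- the power
  have h2 : Ph F τ * gl F 3 (TT b a) * (Ph F τ)⁻¹ ∈ zpowers (gl F 3 (TT b a)) :=
    (mem_normalizer_iff.1 ht _).1 (mem_zpowers _)
  rw [← (isOfFinOrder_of_finite (gl F 3 (TT b a))).mem_powers_iff_mem_zpowers] at h2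
  obtain ⟨j, hj⟩ := h2
  change gl F 3 (TT b a) ^ j = Ph F τ * gl F 3 (TT b a) * (Ph F τ)⁻¹ at hj
  rw [hxP, ← hX] at hj
  have haj : a ^ j ≠ 1 := by
    intro h
    have h3 : X ^ j = 1 := by rw [hX, ← map_pow, ← map_pow, h, map_one, map_one]
    rw [← map_pow, h3, map_one] at hj
    have h4 : Ph F X = 1 := by
      calc Ph F X = (Ph F τ)⁻¹ * (Ph F τ * Ph F X * (Ph F τ)⁻¹) * Ph F τ := by group
        _ = 1 := by rw [← hj]; group
    rw [hxP, ← hX, h4, orderOf_one] at hx
    exact hr.out.one_lt.ne hx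
  -- lift
  have hlift : τ * X * τ⁻¹ = X ^ j := by
    have h3 : Ph F (τ * X * τ⁻¹ * (X ^ j)⁻¹) = 1 := by
      rw [map_mul, map_mul, map_mul, map_inv, map_inv, map_pow, ← hj, mul_inv_cancel]
    obtain ⟨c, hc⟩ := Ph_eq_one h3
    obtain ⟨s, hs⟩ : ∃ s, s = τ * X * τ⁻¹ * (X ^ j)⁻¹ := ⟨_, rfl⟩
    rw [← hs] at hc
    have hs' : s * X ^ j = τ * X * τ⁻¹ := by rw [hs]; group
    have hsc : Commute s (X ^ j) := by
      apply Subtype.ext
      change s.1 * (X ^ j).1 = (X ^ j).1 * s.1
      rw [hc]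
      exact (Matrix.scalar_commute _ (fun r => Commute.all _ _) _).eq
    have h4 : s ^ r = 1 := by
      have h5 : (s * X ^ j) ^ r = 1 := by
        rw [hs', conj_pow, hXr, mul_one, mul_inv_cancel]
      rw [hsc.mul_pow, ← pow_mul, mul_comm j r, pow_mul, hXr, one_pow, mul_one] at h5
      exact h5
    have h5 : c ^ r = 1 := by
      have h6 : (s ^ r).1 = s.1 ^ r := rfl
      rw [h4, hc, ← map_pow] at h6
      have h7 := congrFun (congrFun h6 (Sum.inr 0)) (Sum.inr 0)
      have h8 : (1 : SpecialLinearGroup (Fin 3 ⊕ Fin 1) F).1 (Sum.inr 0) (Sum.inr 0) = 1 := rfl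
      rw [h8] at h7
      simp only [scalar_apply, diagonal_apply_eq] at h7
      exact h7.symm
    rw [not_dvd_sub_one_of h1 h5, map_one] at hc
    have h6 : s = 1 := Subtype.ext hc
    rw [← hs', h6, one_mul]
  have hmul : τ * X = X ^ j * τ := by rw [← hlift]; group
  have hX1 : X.1 = fromBlocks (Algebra.leftMulMatrix b (a : K)) 0 0 1 := by
    have h3 := glSL_pow b h1 har 1
    rw [pow_one, pow_one, ← hX] at h3
    exact h3
  have hXj : (X ^ j).1 = fromBlocks (Algebra.leftMulMatrix b ((a : K) ^ j)) 0 0 1 := by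
    rw [hX]; exact glSL_pow b h1 har j
  -- blocks
  obtain ⟨P, Q, R, S, hτ⟩ : ∃ P Q R S, τ.1 = fromBlocks P Q R S := ⟨_, _, _, _, (fromBlocks_toBlocks τ.1).symm⟩
  have hm : fromBlocks P Q R S * fromBlocks (Algebra.leftMulMatrix b (a : K)) 0 0 1 =
      fromBlocks (Algebra.leftMulMatrix b ((a : K) ^ j)) 0 0 1 * fromBlocks P Q R S := by
    rw [← hτ, ← hX1, ← hXj]
    exact congrArg Subtype.val hmul
  rw [fromBlocks_multiply, fromBlocks_multiply] at hm
  simp only [Matrix.mul_zero, Matrix.zero_mul, add_zero, zero_add, Matrix.mul_one, Matrix.one_mul] at hm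
  obtain ⟨hP, hQ, hR, -⟩ := fromBlocks_inj.1 hm
  have ha1 : (a : K) ≠ 1 := by
    intro h
    have h4 : a = 1 := Units.ext h
    rw [h4, orderOf_one] at ha
    exact hr.out.one_lt.ne ha
  have haj1 : (a : K) ^ j ≠ 1 := by
    intro h
    exact haj (Units.ext (by rw [Units.val_pow_eq_pow_val, h, Units.val_one]))
  have hQ0 := eq_zero_of_mul b haj1 hQ.symm
  have hR0 := eq_zero_of_mul' b ha1 hR
  subst hQ0 hR0
  -- the square
  obtain ⟨c, hc⟩ := Ph_eq_one (z := τ ^ 2) (by rw [map_pow, ht2])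
  have hsq : fromBlocks P 0 0 S * fromBlocks P 0 0 S =
      fromBlocks (Matrix.scalar (Fin 3) c) 0 0 (Matrix.scalar (Fin 1) c) := by
    rw [← hτ]
    have h3 : (τ ^ 2).1 = τ.1 * τ.1 := by rw [pow_two]; rfl
    rw [← h3, hc]
    ext i j
    rcases i with i | i <;> rcases j with j | j <;> simp [Matrix.diagonal_apply]
  rw [fromBlocks_multiply] at hsq
  simp only [Matrix.mul_zero, Matrix.zero_mul, add_zero, zero_add] at hsq
  obtain ⟨hPP, -, -, hSS⟩ := fromBlocks_inj.1 hsq
  have hdet : P.det * S.det = 1 := by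
    have h3 := τ.2
    rwa [hτ, det_fromBlocks_zero₂₁] at h3
  have hS : S 0 0 * S 0 0 = c := by
    have h3 := congrFun (congrFun hSS 0) 0
    simpa [Matrix.mul_apply] using h3
  have hS0 : S.det = S 0 0 := det_fin_one S
  have hc0 : c ≠ 0 := by
    intro h
    rw [h] at hS
    have h4 : S 0 0 = 0 := mul_self_eq_zero.1 hS
    rw [hS0, h4, mul_zero] at hdet
    exact zero_ne_one hdet
  -- the linear map
  obtain ⟨g, hg⟩ : ∃ g : K →ₗ[F] K, LinearMap.toMatrixAlgEquiv b g = P :=
    ⟨(LinearMap.toMatrixAlgEquiv b).symm P, AlgEquiv.apply_symm_apply _ _⟩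
  have hL : ∀ y : K, Algebra.leftMulMatrix b y = LinearMap.toMatrixAlgEquiv b (LinearMap.mulLeft F y) := by
    intro y
    rw [Algebra.leftMulMatrix_apply]
    rfl
  have hg1 : ∀ y, g ((a : K) * y) = (a : K) ^ j * g y := by
    intro y
    have h3 : LinearMap.toMatrixAlgEquiv b (g * LinearMap.mulLeft F (a : K)) =
        LinearMap.toMatrixAlgEquiv b (LinearMap.mulLeft F ((a : K) ^ j) * g) := by
      rw [map_mul, map_mul, hg, ← hL, ← hL]
      exact hP
    exact congrArg (fun f : K →ₗ[F] K => f y) ((LinearMap.toMatrixAlgEquiv b).injective h3)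
  have hsc : ∀ c : F, Matrix.scalar (Fin 3) c = LinearMap.toMatrixAlgEquiv b (LinearMap.mulLeft F (algebraMap F K c)) := by
    intro c
    rw [← hL, AlgHom.commutes]
    rfl
  have hg2 : ∀ y, g (g y) = algebraMap F K c * y := by
    intro y
    have h3 : LinearMap.toMatrixAlgEquiv b (g * g) =
        LinearMap.toMatrixAlgEquiv b (LinearMap.mulLeft F (algebraMap F K c)) := by
      rw [map_mul, hg, hPP, hsc]
    exact congrArg (fun f : K →ₗ[F] K => f y) ((LinearMap.toMatrixAlgEquiv b).injective h3)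
  obtain ⟨w, hw⟩ := scalar_of_sq hK hfin (adjoin_top h1 hfin ha) hg1 hc0 hg2
  have hPw : P = Matrix.scalar (Fin 3) w := by
    rw [← hg, hsc]
    congr 1
    ext y
    exact hw y
  have hww : w * w = c := by
    have h3 := congrFun (congrFun hPP 0) 0
    rw [hPw] at h3
    simpa [Matrix.mul_apply, Matrix.diagonal_apply] using h3
  have hd : w ^ 3 * S 0 0 = 1 := by
    rw [hPw, hS0] at hdet
    simpa using hdet
  have hSw : S = Matrix.scalar (Fin 1) (S 0 0) := by
    ext i j
    fin_cases i; fin_cases j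
    simp
  have hend : S 0 0 = w → Ph F τ = 1 := by
    intro h
    apply Ph_of_scalar (c := w)
    rw [hτ, hSw, h, hPw]
    ext i j
    rcases i with i | i <;> rcases j with j | j <;> simp [Matrix.diagonal_apply]
  have hcase : S 0 0 = w ∨ S 0 0 = -w := by
    have h3 : (S 0 0 - w) * (S 0 0 + w) = 0 := by linear_combination hS - hww
    rcases mul_eq_zero.1 h3 with h4 | h4
    · left; linear_combination h4
    · right; linear_combination h4
  rcases hcase with h | h
  · exact hend h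
  · rw [h] at hd
    have hw4 : w ^ 4 = -1 := by linear_combination -hd
    by_cases h2 : (2 : F) = 0
    · apply hend
      rw [h]
      linear_combination -w * h2
    · exfalso
      apply h8
      have hw0 : w ≠ 0 := by
        rintro rfl
        norm_num at hw4
      have hord : orderOf w = 8 := by
        have h4 : ¬ w ^ 2 ^ 2 = 1 := by
          intro h5
          rw [show (2 : ℕ) ^ 2 = 4 by norm_num, hw4] at h5
          exact h2 (by linear_combination -h5)
        have h5 : w ^ 2 ^ (2 + 1) = 1 := by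
          rw [show (2 : ℕ) ^ (2 + 1) = 4 * 2 by norm_num, pow_mul, hw4]
          norm_num
        have h6 := orderOf_eq_prime_pow h4 h5
        rw [h6]
        norm_num
      rw [← hord]
      exact orderOf_dvd_of_pow_eq_one (FiniteField.pow_card_sub_one_eq_one w hw0)

end block

end Cfsg.Agent.H807.Fx
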