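import Cfsg.Agent.H807.Fx.PSLBig

/-!
# `PSL_4(q)`: the primes dividing `q^2 + 1`
-/

set_option autoImplicit false
set_option linter.style.haveILetI false

namespace Cfsg.Agent.H807.Fx

open Matrix Subgroup
open Cfsg.Agent.H254.Fx
open Cfsg.Agent.H104.GoodFam Cfsg.Agent.H104.RowPSL Cfsg.Agent.H104.FieldModel
open Cfsg.Agent.H104.RankBound (qU qU_coe)

variable {F : Type} [Field F] [Fintype F]

section ext

variable {K : Type} [Field K] [Finite K] [Algebra F K] {e : ℕ} (b : Module.Basis (Fin e) F K)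

/-- the elements of norm 1 -/
noncomputable def nS : (Units.map (Algebra.norm F : K →* F)).ker →* SpecialLinearGroup (Fin e) F where
  toFun a := ⟨(TT b a).1, by
    rw [TT_det]
    have h := a.2
    rw [MonoidHom.mem_ker] at h
    exact congrArg Units.val h⟩
  map_one' := by
    apply Subtype.ext
    change (TT b ((1 : (Units.map (Algebra.norm F : K →* F)).ker) : Kˣ)).1 = 1
    rw [OneMemClass.coe_one, map_one]
    rfl
  map_mul' x y := by
    apply Subtype.ext
    change (TT b ((x * y : (Units.map (Algebra.norm F : K →* F)).ker) : Kˣ)).1 = (TT b x).1 * (TT b y).1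
    rw [MulMemClass.coe_mul, map_mul]
    rfl

theorem coe_nS (a : (Units.map (Algebra.norm F : K →* F)).ker) : (nS b a).1 = (TT b a).1 := rfl

/-- `nS` modulo scalars -/
noncomputable def nP : (Units.map (Algebra.norm F : K →* F)).ker →* ProjectiveSpecialLinearGroup (Fin e) F :=
  (QuotientGroup.mk' (center (SpecialLinearGroup (Fin e) F))).comp (nS b)

theorem nP_eq_one {a : (Units.map (Algebra.norm F : K →* F)).ker} (h : nP b a = 1) :
    ∃ c : F, ((a : Kˣ) : K) = algebraMap F K c := by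
  obtain ⟨c, -, hc⟩ := (mk_eq_one_iff _).1 h
  exact ⟨c, TT_eq_scalar b hc⟩

theorem nP_of_scalar {a : (Units.map (Algebra.norm F : K →* F)).ker} {c : Fˣ}
    (h : (a : Kˣ) = Units.map (algebraMap F K : F →* K) c) : nP b a = 1 := by
  have h1 : (nS b a).1 = Matrix.scalar _ (c : F) := by
    rw [coe_nS, h, TT_algebraMap]
  refine (mk_eq_one_iff _).2 ⟨c, ?_, h1⟩
  have h2 := (nS b a).2
  rw [h1] at h2
  simpa using h2

/-- elements of prime order `r ∤ q - 1` -/
theorem norm_of_prime {r : ℕ} [hr : Fact r.Prime] (h1 : ¬ r ∣ Fintype.card F - 1) {a : Kˣ} (ha : a ^ r = 1) :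
    a ∈ (Units.map (Algebra.norm F : K →* F)).ker := by
  rw [MonoidHom.mem_ker]
  apply Units.ext
  apply not_dvd_sub_one_of h1
  rw [← Units.val_pow_eq_pow_val, ← map_pow, ha, map_one]
  rfl

theorem orderOf_nP {r : ℕ} [hr : Fact r.Prime] (h1 : ¬ r ∣ Fintype.card F - 1)
    {a : (Units.map (Algebra.norm F : K →* F)).ker} (ha : orderOf (a : Kˣ) = r) : orderOf (nP b a) = r := by
  have har : (a : Kˣ) ^ r = 1 := by rw [← ha, pow_orderOf_eq_one]
  refine orderOf_eq_prime ?_ ?_
  · rw [← map_pow]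
    have : a ^ r = 1 := Subtype.ext har
    rw [this, map_one]
  · intro h
    obtain ⟨c, hc⟩ := nP_eq_one b h
    have h3 : c ^ r = 1 := by
      apply (algebraMap F K).injective
      rw [map_pow, ← hc, map_one, ← Units.val_pow_eq_pow_val, har, Units.val_one]
    rw [not_dvd_sub_one_of h1 h3, map_one] at hc
    have h4 : (a : Kˣ) = 1 := Units.ext hc
    rw [h4, orderOf_one] at ha
    exact hr.out.one_lt.ne ha

theorem nP_comm (a a' : (Units.map (Algebra.norm F : K →* F)).ker) : nP b a * nP b a' = nP b a' * nP b a := by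
  rw [← map_mul, ← map_mul, mul_comm]

/-- an element of `SL_e` inducing the Frobenius map -/
theorem exists_fr : ∃ C : SpecialLinearGroup (Fin e) F, ∀ a, C * nS b a * C⁻¹ = nS b a ^ Fintype.card F := by
  obtain ⟨s, hs⟩ := FiniteField.unitsMap_norm_surjective F K (GeneralLinearGroup.det (PH b (fr F K)))⁻¹
  have hdet : ((PH b (fr F K) * TT b s).1).det = 1 := by
    rw [Units.val_mul, det_mul, TT_det]
    have h1 := congrArg Units.val hs
    change Algebra.norm F (s : K) = _ at h1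
    rw [h1]
    exact Units.mul_inv (GeneralLinearGroup.det (PH b (fr F K)))
  obtain ⟨C, hC⟩ : ∃ C : SpecialLinearGroup (Fin e) F, C.1 = (PH b (fr F K) * TT b s).1 := ⟨⟨_, hdet⟩, rfl⟩
  refine ⟨C, fun a => ?_⟩
  rw [mul_inv_eq_iff_eq_mul]
  apply Subtype.ext
  change C.1 * (TT b a).1 = (TT b a).1 ^ Fintype.card F * C.1
  rw [hC, ← Units.val_pow_eq_pow_val, ← Units.val_mul, ← Units.val_mul]
  congr 1
  rw [← fr_conj]
  have h2 : TT b s * TT b a = TT b a * TT b s := by rw [← map_mul, ← map_mul, mul_comm]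
  calc PH b (fr F K) * TT b s * TT b a = PH b (fr F K) * (TT b a * TT b s) := by rw [mul_assoc, h2]
    _ = _ := by group

theorem exists_frP : ∃ u : ProjectiveSpecialLinearGroup (Fin e) F, ∀ a, u * nP b a * u⁻¹ = nP b a ^ Fintype.card F := by
  obtain ⟨C, hC⟩ := exists_fr b
  refine ⟨QuotientGroup.mk' (center (SpecialLinearGroup (Fin e) F)) C, fun a => ?_⟩
  unfold nP
  rw [MonoidHom.comp_apply, ← map_pow, ← hC, map_mul, map_mul, map_inv]

theorem mod_of_four {r : ℕ} [hr : Fact r.Prime] {hrF : (r : F) ≠ 0} {m : ℕ} (h4 : orderOf (qU F r hrF) = m) :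
    ∀ n : ℕ, 0 < n → n < m → ¬ Fintype.card F ^ n ≡ 1 [MOD r] := by
  intro n hn hn4 h
  rw [modEq_iff hrF, h4] at h
  have := Nat.le_of_dvd hn h
  omega

theorem not_dvd_of_order {r : ℕ} [hr : Fact r.Prime] {hrF : (r : F) ≠ 0} {m : ℕ} (h4 : orderOf (qU F r hrF) = m)
    (hm : 1 < m) : ¬ r ∣ Fintype.card F - 1 := by
  intro h
  apply mod_of_four h4 1 (by norm_num) hm
  rw [pow_one, Nat.ModEq.comm, Nat.modEq_iff_dvd' Fintype.card_pos]
  exact h

end ext

/-- `q ≡ 3` modulo 4 -/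
theorem kill_four_three_mod {r : ℕ} [hr : Fact r.Prime] (hrF : (r : F) ≠ 0) (h4 : orderOf (qU F r hrF) = 4)
    (hq : 4 ∣ Fintype.card F + 1) : KillAll r (ProjectiveSpecialLinearGroup (Fin 4) F) := by
  have hd : r ∣ Fintype.card F ^ 4 - 1 := by
    have := dvd_pow_orderOf (F := F) (p := r) hrF
    rwa [h4] at this
  have h1 := not_dvd_of_order h4 (by norm_num)
  obtain ⟨K, _, _, _, hcard, hfin, ⟨b⟩⟩ := exists_ext F (e := 4) (by norm_num)
  have hcardu : Nat.card Kˣ = Fintype.card F ^ 4 - 1 := by rw [Nat.card_units, hcard]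
  obtain ⟨a, ha⟩ := exists_prime_orderOf_dvd_card' (G := Kˣ) r (by rw [hcardu]; exact hd)
  have haN := norm_of_prime (F := F) h1 (a := a) (by rw [← ha, pow_orderOf_eq_one])
  have hx := orderOf_nP b h1 (a := ⟨a, haN⟩) ha
  obtain ⟨u, hu⟩ := exists_frP b
  obtain ⟨m, hm⟩ := hq
  -- an element of order 4
  have h2 : Fintype.card F ^ 4 - 1 = (Fintype.card F - 1) * ((Fintype.card F + 1) * (Fintype.card F ^ 2 + 1)) := by
    have h3 : 1 ≤ Fintype.card F := Fintype.card_pos
    obtain ⟨k, hk⟩ : ∃ k, Fintype.card F = k + 1 := ⟨Fintype.card F - 1, by omega⟩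
    rw [hk, Nat.sub_eq_iff_eq_add (Nat.one_le_pow _ _ (by omega)), Nat.add_sub_cancel]
    ring
  obtain ⟨g, hg⟩ := IsCyclic.exists_ofOrder_eq_natCard (α := Kˣ)
  obtain ⟨i, hi⟩ : ∃ i : Kˣ, orderOf i = 4 := by
    refine ⟨g ^ (orderOf g / 4), ?_⟩
    apply orderOf_pow_orderOf_div (orderOf_pos g).ne'
    rw [hg, hcardu, h2, hm]
    exact ⟨(Fintype.card F - 1) * (m * (Fintype.card F ^ 2 + 1)), by ring⟩
  have hi4 : i ^ 4 = 1 := by rw [← hi, pow_orderOf_eq_one]
  have hiN : i ∈ (Units.map (Algebra.norm F : K →* F)).ker := by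
    rw [MonoidHom.mem_ker]
    apply Units.ext
    change Algebra.norm F (i : K) = 1
    apply (algebraMap F K).injective
    rw [FiniteField.algebraMap_norm_eq_pow, map_one, hcard, Nat.card_eq_fintype_card, h2,
      Nat.mul_div_cancel_left _ (by have := Fintype.one_lt_card (α := F); omega), hm, mul_assoc, pow_mul,
      ← Units.val_pow_eq_pow_val, hi4, Units.val_one, one_pow]
  refine ⟨_, hx, Or.inl ?_⟩
  refine bad_of_four (t := nP b ⟨i, hiN⟩) hr.out hx (hu _) (by rw [orderOf_cast hrF, h4]) ?_ (nP_comm b _ _)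
  refine orderOf_eq_prime ?_ ?_
  · rw [← map_pow]
    apply nP_of_scalar b (c := -1)
    apply Units.ext
    change ((i : Kˣ) : K) ^ 2 = algebraMap F K (-1)
    rw [map_neg, map_one]
    have h5 : (i : K) ^ 2 * (i : K) ^ 2 = 1 := by
      rw [← pow_add, ← Units.val_pow_eq_pow_val]
      simp [hi4]
    rcases mul_self_eq_one_iff.1 h5 with h6 | h6
    · exfalso
      have h7 : i ^ 2 = 1 := Units.ext (by rw [Units.val_pow_eq_pow_val, h6, Units.val_one])
      have h8 := orderOf_dvd_of_pow_eq_one h7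
      rw [hi] at h8
      omega
    · exact h6
  · intro h
    obtain ⟨c, hc⟩ := nP_eq_one b h
    have hc' : (i : K) = algebraMap F K c := hc
    have hc0 : c ≠ 0 := by
      rintro rfl
      rw [map_zero] at hc'
      exact i.ne_zero hc'
    have h5 : i ^ (Fintype.card F - 1) = 1 := by
      apply Units.ext
      rw [Units.val_pow_eq_pow_val, hc', ← map_pow, FiniteField.pow_card_sub_one_eq_one c hc0, map_one, Units.val_one]
    have h6 := orderOf_dvd_of_pow_eq_one h5
    rw [hi] at h6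
    omega

/-- `3 ∣ q + 1` -/
theorem kill_four_three_dvd {r : ℕ} [hr : Fact r.Prime] (hrF : (r : F) ≠ 0) (h4 : orderOf (qU F r hrF) = 4)
    (hq : 3 ∣ Fintype.card F + 1) : KillAll r (ProjectiveSpecialLinearGroup (Fin 4) F) := by
  have : Fact (Nat.Prime 3) := ⟨Nat.prime_three⟩
  have hmod := mod_of_four h4
  have hd : r ∣ Fintype.card F ^ 4 - 1 := by
    have := dvd_pow_orderOf (F := F) (p := r) hrF
    rwa [h4] at this
  have h1 := not_dvd_of_order h4 (by norm_num)
  obtain ⟨K, _, _, _, hcard, hfin, ⟨b⟩⟩ := exists_ext F (e := 4) (by norm_num)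
  have hcardu : Nat.card Kˣ = Fintype.card F ^ 4 - 1 := by rw [Nat.card_units, hcard]
  obtain ⟨a, ha⟩ := exists_prime_orderOf_dvd_card' (G := Kˣ) r (by rw [hcardu]; exact hd)
  have haN := norm_of_prime (F := F) h1 (a := a) (by rw [← ha, pow_orderOf_eq_one])
  have hx := orderOf_nP b h1 (a := ⟨a, haN⟩) ha
  obtain ⟨u, hu⟩ := exists_frP b
  obtain ⟨m, hm⟩ := hq
  have h2 : Fintype.card F ^ 4 - 1 = (Fintype.card F - 1) * ((Fintype.card F + 1) * (Fintype.card F ^ 2 + 1)) := by
    have h3 : 1 ≤ Fintype.card F := Fintype.card_pos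
    obtain ⟨k, hk⟩ : ∃ k, Fintype.card F = k + 1 := ⟨Fintype.card F - 1, by omega⟩
    rw [hk, Nat.sub_eq_iff_eq_add (Nat.one_le_pow _ _ (by omega)), Nat.add_sub_cancel]
    ring
  have h31 : ¬ 3 ∣ Fintype.card F - 1 := by
    have := Fintype.one_lt_card (α := F)
    omega
  obtain ⟨ζ, hζ⟩ := exists_prime_orderOf_dvd_card' (G := Kˣ) 3 (by
    rw [hcardu, h2, hm]
    exact ⟨(Fintype.card F - 1) * (m * (Fintype.card F ^ 2 + 1)), by ring⟩)
  have hζN := norm_of_prime (F := F) h31 (a := ζ) (by rw [← hζ, pow_orderOf_eq_one])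
  have hz := orderOf_nP b h31 (a := ⟨ζ, hζN⟩) hζ
  refine ⟨_, hx, Or.inr (Or.inr (Or.inl ⟨u, mem_normalizer_of_conj (hu _), _,
    mem_normalizer_of_comm (nP_comm b ⟨ζ, hζN⟩ _), out_of_conj hx (hu _) (hmod 2 (by norm_num) (by norm_num)),
    out_of_conj hx (hu _) (hmod 3 (by norm_num) (by norm_num)), hz⟩))⟩

end Cfsg.Agent.H807.Fx
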