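import Cfsg.Agent.H807.Fx.PSLThree

/-!
# `PSL_n(q)`: the primes `r ≥ 5`
-/

set_option autoImplicit false
set_option linter.style.haveILetI false

namespace Cfsg.Agent.H807.Fx

open Matrix Subgroup
open Cfsg.Agent.H254.Fx
open Cfsg.Agent.H104.GoodFam Cfsg.Agent.H104.RowPSL Cfsg.Agent.H104.FieldModel
open Cfsg.Agent.H104.RankBound (qU qU_coe)

variable {F : Type} [Field F]

/-! ### Primes dividing `|SL_{n-2}(q)|` -/

/-- order 3 in characteristic 2 -/
def s3 (F : Type) [Field F] (h : (2 : F) = 0) : SpecialLinearGroup (Fin 2) F := ⟨!![0, 1; 1, 1], by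
  rw [det_fin_two]; simp; linear_combination -h⟩

/-- order 2 in characteristic 2 -/
def s2 (F : Type) [Field F] (h : (2 : F) = 0) : SpecialLinearGroup (Fin 2) F := ⟨!![0, 1; 1, 0], by
  rw [det_fin_two]; simp; linear_combination -h⟩

theorem s3_cube (h : (2 : F) = 0) : s3 F h ^ 3 = 1 := by
  apply Subtype.ext
  change (!![0, 1; 1, 1] : Matrix (Fin 2) (Fin 2) F) ^ 3 = 1
  ext i j
  fin_cases i <;> fin_cases j <;> simp [pow_succ, Matrix.mul_apply, Fin.sum_univ_two]
  · linear_combination h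
  · linear_combination h
  · linear_combination h

theorem s3_ne (h : (2 : F) = 0) : s3 F h ≠ 1 := by
  intro h
  have h1 := congrFun (congrFun (congrArg Subtype.val h) 1) 0
  change (1 : F) = 0 at h1
  exact one_ne_zero h1

theorem s2_conj (h : (2 : F) = 0) : s2 F h * s3 F h * (s2 F h)⁻¹ = (s3 F h)⁻¹ := by
  have h1 : s3 F h * (s2 F h * s3 F h) = s2 F h := by
    apply Subtype.ext
    change (!![0, 1; 1, 1] : Matrix (Fin 2) (Fin 2) F) * (!![0, 1; 1, 0] * !![0, 1; 1, 1]) = !![0, 1; 1, 0]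
    ext i j
    fin_cases i <;> fin_cases j <;> simp [Matrix.mul_apply, Fin.sum_univ_two]
    linear_combination h
  rw [mul_inv_eq_iff_eq_mul, eq_inv_mul_iff_mul_eq]
  exact h1

/-- elements of order `r` of `SL_k(q)` -/
theorem killAll_sub [Fintype F] {k r : ℕ} (hk : 1 ≤ k) {y : SpecialLinearGroup (Fin k) F} (hy : orderOf y = r) :
    KillAll r (ProjectiveSpecialLinearGroup (Fin (k + 2)) F) := by
  refine ⟨em k 2 y, by rw [orderOf_em (by norm_num) hy], ?_⟩
  have hcomm : ∀ B : SpecialLinearGroup (Fin 2) F, em₂ k 2 B * em k 2 y = em k 2 y * em₂ k 2 B := fun B =>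
    (em_comm y B).symm
  have hinj := em₂_injective (F := F) (e := k) (e' := 2) (by omega)
  rcases Nat.even_or_odd (Fintype.card F) with he | ho
  · have h20 := two_eq_zero_of_even he
    right; right; right; left
    refine ⟨em₂ k 2 (s3 F h20), mem_normalizer_of_comm (hcomm _), em₂ k 2 (s2 F h20),
      mem_normalizer_of_comm (hcomm _), ?_, ?_⟩
    · rw [orderOf_injective _ hinj]
      have : Fact (Nat.Prime 3) := ⟨Nat.prime_three⟩
      exact orderOf_eq_prime (s3_cube h20) (s3_ne h20)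
    · rw [← map_inv, ← map_mul, ← map_mul, s2_conj, map_inv]
  · left
    refine bad_of_comm_eight (Y := (em₂ k 2).range) ?_ ?_
    · rintro _ ⟨B, rfl⟩
      exact hcomm B
    · rw [Nat.card_congr (MonoidHom.ofInjective hinj).toEquiv.symm]
      exact eight_dvd_SL_two ho

/-- passing to a larger degree -/
theorem exists_sub {e k r : ℕ} (hek : e ≤ k) {y : SpecialLinearGroup (Fin e) F} (hy : orderOf y = r) :
    ∃ y' : SpecialLinearGroup (Fin k) F, orderOf y' = r := by
  obtain ⟨j, rfl⟩ : ∃ j, k = e + j := ⟨k - e, by omega⟩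
  have h2 : Function.Injective ((relabel (finSumFinEquiv (m := e) (n := j))).comp (blk (Fin e) (Fin j)) :
      SpecialLinearGroup (Fin e) F →* SpecialLinearGroup (Fin (e + j)) F) :=
    (relabel_injective _).comp (blk_injective _ _)
  exact ⟨_, (orderOf_injective _ h2 y).trans hy⟩

/-! ### `x ~ x^q` -/

theorem orderOf_mk [Fintype F] {n r : ℕ} [hr : Fact r.Prime] (hn : 1 ≤ n) (h1 : ¬ r ∣ Fintype.card F - 1)
    {y : SpecialLinearGroup (Fin n) F} (hy : y ^ r = 1) (hy1 : y ≠ 1) :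
    orderOf (QuotientGroup.mk' (center (SpecialLinearGroup (Fin n) F)) y) = r := by
  refine orderOf_eq_prime (by rw [← map_pow, hy, map_one]) ?_
  intro h
  exact hy1 (center_free hn (fun c _ hc => not_dvd_sub_one_of h1 hc) y hy h)

theorem killAll_conj [Fintype F] {m e' r : ℕ} [hr : Fact r.Prime] (hm : 1 ≤ m) (hmr : r ∣ Fintype.card F ^ m - 1)
    (h1 : ¬ r ∣ Fintype.card F - 1) (h3 : ¬ Fintype.card F ^ 3 ≡ 1 [MOD r]) (h4 : ¬ Fintype.card F ^ 4 ≡ 1 [MOD r]) :
    KillAll r (ProjectiveSpecialLinearGroup (Fin (m + e')) F) := by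
  obtain ⟨y, c, hy, hy1, hc⟩ := exists_conj_pow (F := F) hm hmr h1
  refine killAll_of_hom (em m e') (x := y) (u := c) ?_ hc h3 h4
  refine orderOf_mk (by omega) h1 (y := (relabel finSumFinEquiv) (blk (Fin m) (Fin e') y)) ?_ ?_
  · rw [← map_pow, ← map_pow, hy, map_one, map_one]
  · intro h
    apply hy1
    apply blk_injective (Fin m) (Fin e')
    apply relabel_injective finSumFinEquiv
    rw [h, map_one, map_one]

/-! ### The order of `q` modulo `r` -/

theorem modEq_iff [Fintype F] {r : ℕ} [hr : Fact r.Prime] (hrF : (r : F) ≠ 0) (k : ℕ) :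
    Fintype.card F ^ k ≡ 1 [MOD r] ↔ orderOf (qU F r hrF) ∣ k := by
  rw [orderOf_dvd_iff_pow_eq_one, qU_pow_eq_one_iff, Nat.ModEq.comm,
    Nat.modEq_iff_dvd' (Nat.one_le_pow _ _ Fintype.card_pos)]

theorem orderOf_le_of_dvd [Fintype F] {n r : ℕ} [hr : Fact r.Prime] (hn : 2 ≤ n) (hrF : (r : F) ≠ 0)
    (h : r ∣ Nat.card (ProjectiveSpecialLinearGroup (Fin n) F)) : orderOf (qU F r hrF) ≤ n := by
  have h1 := Cfsg.Agent.S0243.result (F := F) rfl n hn
  have h2 : r ∣ ∏ i : Fin n, (Fintype.card F ^ n - Fintype.card F ^ (i : ℕ)) := by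
    rw [← h1]
    exact Dvd.dvd.mul_left (Dvd.dvd.mul_left h _) _
  rw [Prime.dvd_finset_prod_iff hr.out.prime] at h2
  obtain ⟨i, -, hi⟩ := h2
  have hq : 0 < Fintype.card F := Fintype.card_pos
  have hrq : ¬ r ∣ Fintype.card F := by
    intro h3
    apply hrF
    have h4 : ((Fintype.card F : ℕ) : F) = 0 := FiniteField.cast_card_eq_zero F
    obtain ⟨p, hp⟩ := CharP.exists F
    obtain ⟨m, hpr, hm⟩ := FiniteField.card F p
    rw [hm] at h3
    have h5 := (Nat.prime_dvd_prime_iff_eq hr.out hpr).1 (hr.out.dvd_of_dvd_pow h3)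
    rw [h5]
    exact CharP.cast_eq_zero F p
  have h3 : Fintype.card F ^ n - Fintype.card F ^ (i : ℕ) =
      Fintype.card F ^ (i : ℕ) * (Fintype.card F ^ (n - i) - 1) := by
    rw [Nat.mul_sub, ← pow_add, mul_one]
    congr 2
    omega
  rw [h3, hr.out.dvd_mul] at hi
  rcases hi with hi | hi
  · exact absurd (hr.out.dvd_of_dvd_pow hi) hrq
  · rw [← qU_pow_eq_one_iff hrF, ← orderOf_dvd_iff_pow_eq_one] at hi
    have := Nat.le_of_dvd (by omega) hi
    omega

/-- primes with `ord_r(q) ≤ k`, `k ≥ 2` -/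
theorem exists_of_order_le [Fintype F] {k r : ℕ} [hr : Fact r.Prime] (hk : 2 ≤ k)
    (h : ∀ hrF : (r : F) ≠ 0, orderOf (qU F r hrF) ≤ k) : ∃ y : SpecialLinearGroup (Fin k) F, orderOf y = r := by
  have key : r ∣ Nat.card (SpecialLinearGroup (Fin 2) F) → ∃ y : SpecialLinearGroup (Fin k) F, orderOf y = r := by
    intro h1
    obtain ⟨y, hy⟩ := exists_prime_orderOf_dvd_card' r h1
    exact exists_sub hk hy
  rw [card_SL_two] at key
  by_cases hrF : (r : F) = 0
  · apply key
    refine Dvd.dvd.mul_right ?_ _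
    obtain ⟨p, hp⟩ := CharP.exists F
    obtain ⟨m, hpr, hm⟩ := FiniteField.card F p
    have h1 := (CharP.cast_eq_zero_iff F p r).1 hrF
    rw [(Nat.prime_dvd_prime_iff_eq hpr hr.out).1 h1] at hm
    rw [hm]
    exact dvd_pow_self _ m.pos.ne'
  · have hm := h hrF
    obtain ⟨m, hmdef⟩ : ∃ m, m = orderOf (qU F r hrF) := ⟨_, rfl⟩
    have hmp : 0 < m := hmdef ▸ orderOf_pos _
    have hd := dvd_pow_orderOf (F := F) (p := r) hrF
    rw [← hmdef] at hm hd
    rcases Nat.lt_or_ge m 3 with hm3 | hm3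
    · apply key
      refine Dvd.dvd.mul_left ?_ _
      rw [← qU_pow_eq_one_iff hrF, ← orderOf_dvd_iff_pow_eq_one, ← hmdef]
      interval_cases m <;> norm_num
    · have h1 : ¬ r ∣ Fintype.card F - 1 := by
        intro h2
        rw [← pow_one (Fintype.card F), ← qU_pow_eq_one_iff hrF, ← orderOf_dvd_iff_pow_eq_one, ← hmdef] at h2
        have := Nat.le_of_dvd (by norm_num) h2
        omega
      obtain ⟨y, hy, hy1⟩ := exists_sl (F := F) (p := r) (e := m) (by omega) hd h1
      exact exists_sub hm (orderOf_eq_prime hy hy1)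

end Cfsg.Agent.H807.Fx
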