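import Cfsg.Agent.H807.Fx.BadThree

/-!
# `Bad3 (PSL_n(q))` for `n ≥ 5` and for `n = 4`, `q ≥ 3`
-/

set_option autoImplicit false
set_option linter.style.haveILetI false

namespace Cfsg.Agent.H807.Fx

open Matrix Subgroup
open Cfsg.Agent.H254.Fx
open Cfsg.Agent.H104.GoodFam Cfsg.Agent.H104.RowPSL

variable {F : Type} [Field F]

theorem xx_one : xx (1 : Matrix (Fin 2) (Fin 2) F) (Matrix.one_mul _) = dd F (z₀ F, z₀ F) := by
  apply Subtype.ext
  change fromBlocks (z₀ F).1 0 0 (1 * (z₀ F).1 * 1) = fromBlocks (z₀ F).1 0 0 (z₀ F).1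
  rw [Matrix.one_mul, Matrix.mul_one]

theorem xx_w : xx (w₀ F) w₀_sq = dd F (z₀ F, (z₀ F)⁻¹) := by
  apply Subtype.ext
  change fromBlocks (z₀ F).1 0 0 (w₀ F * (z₀ F).1 * w₀ F) = fromBlocks (z₀ F).1 0 0 ((z₀ F)⁻¹).1
  rw [w₀_conj]

theorem xx_cube (M : Matrix (Fin 2) (Fin 2) F) (hM : M * M = 1) (h : M = 1 ∨ M = w₀ F) : xx M hM ^ 3 = 1 := by
  rcases h with rfl | rfl
  · rw [xx_one, ← map_pow]
    have : (z₀ F, z₀ F) ^ 3 = 1 := by rw [Prod.pow_mk, z₀_cube]; rfl
    rw [this, map_one]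
  · rw [xx_w, ← map_pow]
    have : (z₀ F, (z₀ F)⁻¹) ^ 3 = 1 := by rw [Prod.pow_mk, inv_pow, z₀_cube, inv_one]; rfl
    rw [this, map_one]

theorem not_scalar_z₀ {A : Matrix (Fin 2) (Fin 2) F} {c : F} :
    fromBlocks (z₀ F).1 0 0 A ≠ Matrix.scalar (Fin 2 ⊕ Fin 2) c := by
  intro h
  have h1 := congrFun (congrFun h (Sum.inl 1)) (Sum.inl 0)
  rw [fromBlocks_apply₁₁] at h1
  have h2 : (z₀ F).1 1 0 = 1 := rfl
  rw [h2] at h1
  simp at h1

theorem two_eq_zero_of_even [Fintype F] (h : Even (Fintype.card F)) : (2 : F) = 0 := by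
  have h1 : ringChar F = 2 := by
    rw [FiniteField.even_card_iff_char_two, ← Nat.even_iff]
    exact h
  have h2 := ringChar.Nat.cast_ringChar (R := F)
  rw [h1] at h2
  exact_mod_cast h2

theorem four_dvd_of_even [Fintype F] (h : Even (Fintype.card F)) (h3 : 3 ≤ Fintype.card F) : 4 ∣ Fintype.card F := by
  obtain ⟨p, hp⟩ := CharP.exists F
  obtain ⟨n, hpr, hn⟩ := FiniteField.card F p
  have h2 : p = 2 := by
    rw [hn] at h
    have h4 := (Nat.even_pow.1 h).1
    exact (hpr.even_iff).1 h4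
  subst h2
  rw [hn] at h3 ⊢
  have h4 : 2 ≤ (n : ℕ) := by
    by_contra hlt
    have h5 : (n : ℕ) = 1 := by have := n.pos; omega
    rw [h5] at h3
    omega
  exact (pow_dvd_pow 2 h4)

section main

variable {k : ℕ} {ι : Type} [Fintype ι] [DecidableEq ι] (ε : Fin 2 ⊕ (Fin 2 ⊕ Fin k) ≃ ι) [Fintype F]

instance finite_PSL' (ι : Type) [Fintype ι] [DecidableEq ι] : Finite (ProjectiveSpecialLinearGroup ι F) :=
  inferInstanceAs (Finite (SpecialLinearGroup ι F ⧸ center (SpecialLinearGroup ι F)))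

theorem orderOf_xx (M : Matrix (Fin 2) (Fin 2) F) (hM : M * M = 1) (h : M = 1 ∨ M = w₀ F) :
    orderOf (g4 ε (xx M hM)) = 3 := by
  have : Fact (Nat.Prime 3) := ⟨Nat.prime_three⟩
  refine orderOf_eq_prime ?_ ?_
  · rw [← map_pow, xx_cube M hM h, map_one]
  · intro h1
    obtain ⟨c, hc⟩ := scalar_of_g4 h1
    exact not_scalar_z₀ hc

theorem card_neg_le (K : Subgroup (SpecialLinearGroup (Fin 2) F)) (h : ∀ A ∈ K, A = 1 ∨ A = -1) :
    Nat.card K = 1 ∨ Nat.card K = 2 := by
  have h1 : Nat.card K ≤ 2 := by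
    have h2 : (K : Set (SpecialLinearGroup (Fin 2) F)) ⊆ {1, -1} := by
      intro A hA
      rcases h A hA with h | h <;> simp [h]
    have h3 := Set.ncard_le_ncard h2 (Set.toFinite _)
    have h4 : ({1, -1} : Set (SpecialLinearGroup (Fin 2) F)).ncard ≤ 2 := Set.ncard_insert_le _ _ |>.trans (by simp)
    exact h3.trans h4
  have h2 : 0 < Nat.card K := Nat.card_pos
  omega

theorem four_dvd_xx (M : Matrix (Fin 2) (Fin 2) F) (hM : M * M = 1) :
    4 ∣ Nat.card (centralizer ({g4 ε (xx M hM)} : Set (ProjectiveSpecialLinearGroup ι F))) := by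
  rcases Nat.even_or_odd (Fintype.card F) with he | ho
  · have h1 : ((g4 ε).comp (ups M)).range ≤ centralizer ({g4 ε (xx M hM)} : Set (ProjectiveSpecialLinearGroup ι F)) := by
      rintro _ ⟨p, rfl⟩
      rw [mem_centralizer_singleton_iff, MonoidHom.comp_apply, ← map_mul, ups_comm M hM, map_mul]
    refine dvd_trans ?_ (card_dvd_of_le h1)
    have h2 : Function.Injective ((g4 ε).comp (ups (F := F) M)) := by
      rw [injective_iff_map_eq_one]
      intro p hp
      obtain ⟨c, hc⟩ := scalar_of_g4 hp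
      exact ups_scalar hM hc
    rw [Nat.card_congr (MonoidHom.ofInjective h2).toEquiv.symm]
    have h3 : Nat.card (Multiplicative (F × F)) = Fintype.card F * Fintype.card F := by
      rw [Nat.card_congr Multiplicative.toAdd, Nat.card_prod, Nat.card_eq_fintype_card]
    rw [h3]
    obtain ⟨m, hm⟩ := he
    exact ⟨m * m, by rw [hm]; ring⟩
  · have h1 : ((g4 ε).comp (tau M hM)).range ≤ centralizer ({g4 ε (xx M hM)} : Set (ProjectiveSpecialLinearGroup ι F)) := by
      rintro _ ⟨p, rfl⟩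
      rw [mem_centralizer_singleton_iff, MonoidHom.comp_apply, ← map_mul, tau_comm M hM, map_mul]
    refine dvd_trans ?_ (card_dvd_of_le h1)
    have h2 := card_neg_le ((g4 ε).comp (tau M hM)).ker (by
      intro A hA
      rw [MonoidHom.mem_ker] at hA
      obtain ⟨c, hc⟩ := scalar_of_g4 hA
      exact tau_scalar hc)
    have h3 := card_mul_index ((g4 ε).comp (tau M hM)).ker
    rw [index_ker] at h3
    have h4 := eight_dvd_SL_two ho
    rw [← h3] at h4
    rcases h2 with h2 | h2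
    · rw [h2] at h4; omega
    · rw [h2] at h4; omega

theorem two_dvd_orderOf_two : 2 ∣ orderOf ((2 : ℕ) : ZMod 3) := by
  have : Fact (Nat.Prime 2) := ⟨Nat.prime_two⟩
  have h : orderOf ((2 : ℕ) : ZMod 3) = 2 := orderOf_eq_prime (by decide) (by decide)
  rw [h]

theorem bad_xx (M : Matrix (Fin 2) (Fin 2) F) (hM : M * M = 1) (h : M = 1 ∨ M = w₀ F) : Bad (g4 ε (xx M hM)) := by
  refine bad_of_two Nat.prime_three (orderOf_xx ε M hM h) (u := g4 ε (uu F)) (j := 2) ?_ two_dvd_orderOf_two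
    (four_dvd_xx ε M hM)
  have hMw : M * w₀ F = w₀ F * M := by
    rcases h with rfl | rfl
    · rw [Matrix.one_mul, Matrix.mul_one]
    · rfl
  rw [← map_inv, ← map_mul, ← map_mul, uu_conj M hM hMw, ← map_pow]
  congr 1
  rw [inv_eq_iff_mul_eq_one, ← pow_succ', xx_cube M hM h]

theorem eight_dvd_sum (h : 1 ≤ k ∨ Odd (Fintype.card F)) : 8 ∣ Nat.card (SpecialLinearGroup (Fin 2 ⊕ Fin k) F) := by
  have h1 : 8 ∣ Nat.card (SpecialLinearGroup (Fin (2 + k)) F) := by
    rcases h with h | h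
    · exact eight_dvd_SL (by omega)
    · refine (eight_dvd_SL_two h).trans ?_
      have h2 : Function.Injective ((relabel (finSumFinEquiv (m := 2) (n := k))).comp (blk (Fin 2) (Fin k)) :
          SpecialLinearGroup (Fin 2) F →* SpecialLinearGroup (Fin (2 + k)) F) :=
        (relabel_injective _).comp (blk_injective _ _)
      exact Subgroup.card_dvd_of_injective _ h2
  exact h1.trans (Subgroup.card_dvd_of_injective _ (relabel_injective (F := F) (finSumFinEquiv (m := 2) (n := k)).symm))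

theorem gg_blk₂ {B : SpecialLinearGroup (Fin 2 ⊕ Fin k) F} (h : gg ε (blk₂ (Fin 2) (Fin 2 ⊕ Fin k) B) = 1) : B = 1 := by
  obtain ⟨c, hc⟩ := scalar_of_gg h
  have h1 : fromBlocks (1 : Matrix (Fin 2) (Fin 2) F) 0 0 B.1 =
      fromBlocks (Matrix.scalar (Fin 2) c) 0 0 (Matrix.scalar (Fin 2 ⊕ Fin k) c) := by
    refine Eq.trans hc ?_
    ext i j
    rcases i with i | i <;> rcases j with j | j <;> simp [Matrix.diagonal_apply]
  obtain ⟨h2, -, -, h3⟩ := fromBlocks_inj.1 h1
  have h4 := congrFun (congrFun h2 0) 0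
  simp at h4
  subst h4
  apply Subtype.ext
  rw [h3, map_one]
  rfl

/-- `diag(A, 1)` -/
theorem bad_blk (h : 1 ≤ k ∨ Odd (Fintype.card F)) (A : SpecialLinearGroup (Fin 2) F) :
    Bad (g4 ε (blk (Fin 2) (Fin 2) A)) := by
  have e : g4 ε (blk (Fin 2) (Fin 2) A) = gg ε (blk (Fin 2) (Fin 2 ⊕ Fin k) A) := by
    rw [← hh_blk]; rfl
  rw [e]
  refine bad_of_hom_eight (gg ε) (Y := (blk₂ (Fin 2) (Fin 2 ⊕ Fin k)).range) ?_ ?_ ?_
  · rintro _ ⟨B, rfl⟩
    exact (blk_comm _ _ A B).symm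
  · rintro _ ⟨B, rfl⟩ h1
    rw [gg_blk₂ ε h1, map_one]
  · have h2 : Function.Injective (blk₂ (Fin 2) (Fin 2 ⊕ Fin k) : SpecialLinearGroup (Fin 2 ⊕ Fin k) F →* _) := by
      intro B C hBC
      exact Subtype.ext (fromBlocks_inj.1 (congrArg Subtype.val hBC)).2.2.2
    rw [Nat.card_congr (MonoidHom.ofInjective h2).toEquiv.symm]
    exact eight_dvd_sum h

/-- `diag(z₀, 1)` -/
theorem bad_z₀ (h : 1 ≤ k ∨ 3 ≤ Fintype.card F) : Bad (g4 ε (blk (Fin 2) (Fin 2) (z₀ F))) := by
  by_cases h1 : 1 ≤ k ∨ Odd (Fintype.card F)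
  · exact bad_blk ε h1 _
  · push Not at h1
    have he : Even (Fintype.card F) := by
      rw [← Nat.not_odd_iff_even]; exact h1.2
    have h3 : 3 ≤ Fintype.card F := by
      rcases h with h | h
      · omega
      · exact h
    have h20 := two_eq_zero_of_even he
    have hneg : (-1 : F) = 1 := by linear_combination -h20
    have e : g4 ε (blk (Fin 2) (Fin 2) (z₀ F)) = gg ε (blk (Fin 2) (Fin 2 ⊕ Fin k) (z₀ F)) := by
      rw [← hh_blk]; rfl
    let w : SpecialLinearGroup (Fin 2) F := ⟨w₀ F, by rw [det_w₀, hneg]⟩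
    have hw : w * z₀ F * w⁻¹ = (z₀ F)⁻¹ := by
      have h4 : w * w = 1 := Subtype.ext w₀_sq
      have h5 : w⁻¹ = w := inv_eq_of_mul_eq_one_left h4
      rw [h5]
      exact Subtype.ext w₀_conj
    have hord : orderOf (g4 ε (blk (Fin 2) (Fin 2) (z₀ F))) = 3 := by
      have : Fact (Nat.Prime 3) := ⟨Nat.prime_three⟩
      refine orderOf_eq_prime ?_ ?_
      · rw [← map_pow, ← map_pow, z₀_cube, map_one, map_one]
      · intro h1
        obtain ⟨c, hc⟩ := scalar_of_g4 h1
        exact not_scalar_z₀ hc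
    refine bad_of_two Nat.prime_three hord (u := g4 ε (blk (Fin 2) (Fin 2) w)) (j := 2) ?_ two_dvd_orderOf_two ?_
    · rw [← map_inv, ← map_mul, ← map_mul, ← map_inv, ← map_mul, ← map_mul, hw, ← map_pow, ← map_pow]
      congr 2
      rw [inv_eq_iff_mul_eq_one, ← pow_succ', z₀_cube]
    · have h5 : (((gg ε).comp (blk₂ (Fin 2) (Fin 2 ⊕ Fin k))).comp (blk (Fin 2) (Fin k)) :
          SpecialLinearGroup (Fin 2) F →* ProjectiveSpecialLinearGroup ι F).range ≤
          centralizer ({g4 ε (blk (Fin 2) (Fin 2) (z₀ F))} : Set (ProjectiveSpecialLinearGroup ι F)) := by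
        rintro _ ⟨B, rfl⟩
        rw [mem_centralizer_singleton_iff, e]
        simp only [MonoidHom.comp_apply]
        rw [← map_mul, ← blk_comm, map_mul]
      refine dvd_trans ?_ (card_dvd_of_le h5)
      have h6 : Function.Injective (((gg ε).comp (blk₂ (Fin 2) (Fin 2 ⊕ Fin k))).comp (blk (Fin 2) (Fin k)) :
          SpecialLinearGroup (Fin 2) F →* ProjectiveSpecialLinearGroup ι F) := by
        rw [injective_iff_map_eq_one]
        intro B hB
        have h7 := gg_blk₂ ε hB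
        apply blk_injective (Fin 2) (Fin k)
        exact h7.trans (map_one _).symm
      rw [Nat.card_congr (MonoidHom.ofInjective h6).toEquiv.symm, card_SL_two]
      exact Dvd.dvd.mul_right (four_dvd_of_even he h3) _

include ε in
/-- **`Bad3`** -/
theorem bad3_psl (h : 1 ≤ k ∨ 3 ≤ Fintype.card F) : Bad3 (ProjectiveSpecialLinearGroup ι F) := by
  have hz : ∀ A ∈ zpowers (z₀ F), A = 1 ∨ A = z₀ F ∨ A = (z₀ F)⁻¹ := by
    intro A hA
    rw [← (isOfFinOrder_of_finite (z₀ F)).mem_powers_iff_mem_zpowers] at hA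
    obtain ⟨n, rfl⟩ := hA
    have h1 : z₀ F ^ n = z₀ F ^ (n % 3) := by
      have h0 := pow_mod_orderOf (z₀ F) n
      rw [orderOf_z₀] at h0
      exact h0.symm
    change z₀ F ^ n = 1 ∨ z₀ F ^ n = z₀ F ∨ z₀ F ^ n = (z₀ F)⁻¹
    rw [h1]
    have h2 : n % 3 < 3 := Nat.mod_lt _ (by norm_num)
    interval_cases n % 3
    · left; exact pow_zero _
    · right; left; exact pow_one _
    · right; right
      rw [eq_inv_iff_mul_eq_one, ← pow_succ, z₀_cube]
  let P : Subgroup (SpecialLinearGroup (Fin 2) F × SpecialLinearGroup (Fin 2) F) :=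
    (zpowers (z₀ F)).prod (zpowers (z₀ F))
  have hinj : ∀ p ∈ P, g4 ε (dd F p) = 1 → p = 1 := by
    rintro ⟨A, B⟩ hp h1
    obtain ⟨c, hc⟩ := scalar_of_g4 h1
    obtain ⟨hA, hB⟩ := Subgroup.mem_prod.1 hp
    have h2 : fromBlocks A.1 0 0 B.1 = fromBlocks (Matrix.scalar (Fin 2) c) 0 0 (Matrix.scalar (Fin 2) c) := by
      refine Eq.trans hc ?_
      ext i j
      rcases i with i | i <;> rcases j with j | j <;> simp [Matrix.diagonal_apply]
    obtain ⟨h3, -, -, h4⟩ := fromBlocks_inj.1 h2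
    have key : ∀ C ∈ zpowers (z₀ F), C.1 = Matrix.scalar (Fin 2) c → C = 1 := by
      intro C hC h5
      rcases hz C hC with h6 | h6 | h6
      · exact h6
      · exfalso
        rw [h6] at h5
        have h7 := congrFun (congrFun h5 1) 0
        have h8 : (z₀ F).1 1 0 = 1 := rfl
        rw [h8] at h7
        simp at h7
      · exfalso
        rw [h6, coe_z₀_inv] at h5
        have h7 := congrFun (congrFun h5 1) 0
        simp at h7
    exact Prod.ext (key A hA h3) (key B hB h4)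
  have hcard : Nat.card (P.map ((g4 ε).comp (dd F))) = 9 := by
    have h1 : Function.Injective (((g4 ε).comp (dd F)).comp P.subtype) := by
      rw [injective_iff_map_eq_one]
      intro p hp
      exact Subtype.ext (hinj p p.2 hp)
    have h2 : P.map ((g4 ε).comp (dd F)) = (((g4 ε).comp (dd F)).comp P.subtype).range := by
      rw [MonoidHom.range_comp, Subgroup.range_subtype]
    rw [h2, Nat.card_congr (MonoidHom.ofInjective h1).toEquiv.symm]
    have h3 : Nat.card P = Nat.card (zpowers (z₀ F) × zpowers (z₀ F)) :=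
      Nat.card_congr (Subgroup.prodEquiv _ _).toEquiv
    rw [h3, Nat.card_prod, Nat.card_zpowers, orderOf_z₀]
  have b10 := bad_z₀ ε h
  have b01 : Bad (g4 ε (blk₂ (Fin 2) (Fin 2) (z₀ F))) := by
    have h1 := b10.conj (g4 ε (swp F (Fin 2)))
    rwa [← map_inv, ← map_mul, ← map_mul, swp_conj] at h1
  have b11 := bad_xx ε (1 : Matrix (Fin 2) (Fin 2) F) (Matrix.one_mul _) (Or.inl rfl)
  have b12 := bad_xx ε (w₀ F) w₀_sq (Or.inr rfl)
  rw [xx_one] at b11
  rw [xx_w] at b12
  refine bad3_of_nine hcard ?_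
  rintro _ ⟨⟨A, B⟩, hp, rfl⟩ hord
  obtain ⟨hA, hB⟩ := Subgroup.mem_prod.1 hp
  rw [MonoidHom.comp_apply] at hord ⊢
  have hi : ∀ A B : SpecialLinearGroup (Fin 2) F, dd F (A⁻¹, B⁻¹) = (dd F (A, B))⁻¹ := by
    intro A B
    rw [← map_inv]; rfl
  rcases hz A hA with h1 | h1 | h1 <;> rcases hz B hB with h2 | h2 | h2 <;> rw [h1, h2] at hord ⊢
  · exfalso
    have : dd F (1, 1) = 1 := map_one (dd F)
    rw [this, map_one, orderOf_one] at hord
    norm_num at hord
  · exact b01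
  · have h3 := hi 1 (z₀ F)
    rw [inv_one] at h3
    rw [h3, map_inv]
    exact Bad.inv b01
  · exact b10
  · exact b11
  · exact b12
  · have h3 := hi (z₀ F) 1
    rw [inv_one] at h3
    rw [h3, map_inv]
    exact Bad.inv b10
  · have h3 := hi (z₀ F) (z₀ F)⁻¹
    rw [inv_inv] at h3
    rw [h3, map_inv]
    exact Bad.inv b12
  · rw [hi, map_inv]
    exact Bad.inv b11

end main

end Cfsg.Agent.H807.Fx
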